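import Mathlib
import Cfsg.Agent.Lib.Helper27.PslnCard
import Cfsg.Agent.Lib.Helper53.AutPSL

/-!
# An index-2 overgroup of `PSL(2,p)` with trivial centralizer is `PGL(2,p)` (piece P2 of S0732)
-/

set_option autoImplicit false

namespace Cfsg.Agent.Lib.Helper79.S0732P2

open Matrix

/-- the injective homomorphism `GL_2(F)/Z → Aut (PSL_2(F))` -/
theorem exists_quot_hom (F : Type*) [Field F] :
    ∃ ι : GL (Fin 2) F ⧸ Subgroup.center (GL (Fin 2) F) →*
      MulAut (Matrix.ProjectiveSpecialLinearGroup (Fin 2) F), Function.Injective ι := by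
  have hker : Subgroup.center (GL (Fin 2) F) ≤
      (Cfsg.Agent.Lib.Helper53.AutPSL.iota : GL (Fin 2) F →*
        MulAut (Matrix.ProjectiveSpecialLinearGroup (Fin 2) F)).ker := fun g hg =>
    MonoidHom.mem_ker.2 ((Cfsg.Agent.Lib.Helper53.AutPSL.iota_eq_one_iff le_rfl g).2 hg)
  refine ⟨QuotientGroup.lift (Subgroup.center (GL (Fin 2) F))
    (Cfsg.Agent.Lib.Helper53.AutPSL.iota : GL (Fin 2) F →* _) hker, ?_⟩
  rw [← MonoidHom.ker_eq_bot_iff, eq_bot_iff]
  intro x hx
  obtain ⟨g, rfl⟩ := QuotientGroup.mk_surjective x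
  rw [MonoidHom.mem_ker, QuotientGroup.lift_mk] at hx
  rw [Subgroup.mem_bot]
  exact (QuotientGroup.eq_one_iff g).2
    ((Cfsg.Agent.Lib.Helper53.AutPSL.iota_eq_one_iff le_rfl g).1 hx)

/-- the injective homomorphism `PGL_2(F) → Aut (PSL_2(F))` -/
theorem exists_pgl_hom (F : Type*) [Field F] :
    ∃ ι : Matrix.ProjGenLinGroup (Fin 2) F →*
      MulAut (Matrix.ProjectiveSpecialLinearGroup (Fin 2) F), Function.Injective ι :=
  exists_quot_hom F

theorem pgl_of_psl_index_two {G : Type*} [Group G] [Finite G] {p : ℕ} [Fact p.Prime] (hp5 : 5 ≤ p)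
    (M : Subgroup G) [M.Normal] (hidx : M.index = 2)
    (e : M ≃* Matrix.ProjectiveSpecialLinearGroup (Fin 2) (ZMod p))
    (hcent : ∀ g : G, (∀ m ∈ M, g * m = m * g) → g = 1) :
    Nonempty (G ≃* Matrix.ProjGenLinGroup (Fin 2) (ZMod p)) := by
  classical
  have hp : p.Prime := Fact.out
  haveI : NeZero p := ⟨hp.ne_zero⟩
  have hF : Fintype.card (ZMod p) = p := ZMod.card p
  have hF1 : Fintype.card (ZMod p) = p ^ 1 := by rw [pow_one]; exact hF
  -- cardinalities
  have hgcd : Nat.gcd 2 (p - 1) = 2 := by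
    have hodd : p % 2 = 1 := by
      rcases hp.eq_two_or_odd with h | h
      · omega
      · exact h
    have h2 : 2 ∣ p - 1 := by omega
    exact Nat.gcd_eq_left h2
  have h1 : Nat.card (Matrix.ProjGenLinGroup (Fin 2) (ZMod p))
      = 2 * Nat.card (Matrix.ProjectiveSpecialLinearGroup (Fin 2) (ZMod p)) := by
    have := Cfsg.Agent.Lib.Helper27.PslnCard.card_pgl_psl hF 2 (by norm_num)
    rw [hgcd] at this
    exact this
  have h2 : Nat.card (MulAut (Matrix.ProjectiveSpecialLinearGroup (Fin 2) (ZMod p)))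
      = Nat.card (Matrix.ProjGenLinGroup (Fin 2) (ZMod p)) := by
    have := Cfsg.Agent.Lib.Helper27.PslnCard.card_aut_psl2 (p := p) (f := 1) hF1
      (by rw [pow_one]; omega)
    rw [one_mul] at this
    exact this
  have h3 : Nat.card G = 2 * Nat.card (Matrix.ProjectiveSpecialLinearGroup (Fin 2) (ZMod p)) := by
    rw [← M.index_mul_card, hidx, Nat.card_congr e.toEquiv]
  have h4 : Nat.card (MulAut M)
      = Nat.card (MulAut (Matrix.ProjectiveSpecialLinearGroup (Fin 2) (ZMod p))) :=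
    Nat.card_congr (MulAut.congr e).toEquiv
  -- the conjugation map
  have hcinj : Function.Injective (MulAut.conjNormal : G →* MulAut M) := by
    rw [← MonoidHom.ker_eq_bot_iff, eq_bot_iff]
    intro g hg
    rw [Subgroup.mem_bot]
    apply hcent
    intro m hm
    have h5 := congrArg (fun α : MulAut M => ((α ⟨m, hm⟩ : M) : G)) (MonoidHom.mem_ker.1 hg)
    simp only [MulAut.conjNormal_apply, MulAut.one_apply] at h5
    calc g * m = (g * m * g⁻¹) * g := by group
      _ = m * g := by rw [h5]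
  haveI : Finite (Matrix.ProjGenLinGroup (Fin 2) (ZMod p)) := by
    unfold Matrix.ProjGenLinGroup
    infer_instance
  haveI : Finite (MulAut (Matrix.ProjectiveSpecialLinearGroup (Fin 2) (ZMod p))) :=
    Nat.finite_of_card_ne_zero (by rw [h2]; exact Nat.card_pos.ne')
  haveI : Finite (MulAut M) := Finite.of_equiv _ (MulAut.congr e).symm.toEquiv
  have hcbij : Function.Bijective (MulAut.conjNormal : G →* MulAut M) :=
    (Nat.bijective_iff_injective_and_card _).2 ⟨hcinj, by rw [h3, h4, h2, h1]⟩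
  obtain ⟨ι, hι⟩ := exists_pgl_hom (ZMod p)
  have hιbij : Function.Bijective ι :=
    (Nat.bijective_iff_injective_and_card _).2 ⟨hι, h2.symm⟩
  exact ⟨(MulEquiv.ofBijective _ hcbij).trans ((MulAut.congr e).trans
    (MulEquiv.ofBijective ι hιbij).symm)⟩

end Cfsg.Agent.Lib.Helper79.S0732P2
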