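import Mathlib
import Cfsg.Agent.Lib.Helper22.TA0

/-!
# Piece AI of the Thompson lattice argument: approximate idempotents

An endomorphism in a subring `S` of `End X` inducing (a unit multiple of) idempotents on the Tate
groups `QA`, `QB` can be replaced by an element of `S` which is idempotent modulo `p ^ k` and
induces the same idempotents.
-/

set_option autoImplicit false

namespace Cfsg.Agent.Lib.Helper79.DOAI

open Cfsg.Agent.Lib.Helper22.TA

variable {X : Type*} [AddCommGroup X] [Module.Free ℤ X] [Module.Finite ℤ X]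

/-- two powers of an endomorphism agree modulo `p` -/
theorem exists_pow_congr (p : ℕ) [Fact p.Prime] (lam : Module.End ℤ X) :
    ∃ i j : ℕ, i < j ∧ ∃ mu : Module.End ℤ X, lam ^ j - lam ^ i = (p : ℤ) • mu := by
  classical
  obtain ⟨P, hP⟩ : ∃ P : Submodule ℤ (Module.End ℤ X),
      ∀ e : Module.End ℤ X, e ∈ P ↔ ∃ mu : Module.End ℤ X, e = (p : ℤ) • mu := by
    refine ⟨LinearMap.range ((p : ℤ) • (LinearMap.id : Module.End ℤ X →ₗ[ℤ] Module.End ℤ X)), ?_⟩
    intro e
    rw [LinearMap.mem_range]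
    constructor
    · rintro ⟨mu, h⟩
      exact ⟨mu, by rw [← h]; rfl⟩
    · rintro ⟨mu, h⟩
      exact ⟨mu, by rw [h]; rfl⟩
  have hp0 : (p : ℤ) ≠ 0 := by exact_mod_cast (Fact.out : p.Prime).ne_zero
  haveI : Finite (Module.End ℤ X ⧸ P) := by
    apply Module.finite_of_fg_torsion
    intro x
    refine ⟨⟨(p : ℤ), mem_nonZeroDivisors_of_ne_zero hp0⟩, ?_⟩
    obtain ⟨e, rfl⟩ := Submodule.Quotient.mk_surjective _ x
    show (p : ℤ) • (Submodule.Quotient.mk e : Module.End ℤ X ⧸ P) = 0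
    rw [← Submodule.Quotient.mk_smul, Submodule.Quotient.mk_eq_zero]
    exact (hP _).2 ⟨e, rfl⟩
  obtain ⟨i, j, hij, heq⟩ := Finite.exists_ne_map_eq_of_infinite
    (fun n : ℕ => (Submodule.Quotient.mk (lam ^ n) : Module.End ℤ X ⧸ P))
  have heq' : (Submodule.Quotient.mk (lam ^ i) : Module.End ℤ X ⧸ P)
      = Submodule.Quotient.mk (lam ^ j) := heq
  rcases lt_or_gt_of_ne hij with h | h
  · refine ⟨i, j, h, ?_⟩
    have h1 := (Submodule.Quotient.eq P).1 heq'.symm
    exact (hP _).1 h1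
  · refine ⟨j, i, h, ?_⟩
    have h1 := (Submodule.Quotient.eq P).1 heq'
    exact (hP _).1 h1

/-- some positive power of an endomorphism is idempotent modulo `p` -/
theorem exists_pow_idem (p : ℕ) [Fact p.Prime] (lam : Module.End ℤ X) :
    ∃ m : ℕ, 1 ≤ m ∧ ∃ mu : Module.End ℤ X, lam ^ m * lam ^ m - lam ^ m = (p : ℤ) • mu := by
  obtain ⟨i, j, hij, mu, hmu⟩ := exists_pow_congr p lam
  obtain ⟨d, hd⟩ : ∃ d, j = i + d := ⟨j - i, by omega⟩
  have hd1 : 1 ≤ d := by omega
  subst hd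
  -- shifting by `d`
  have h1 : ∀ n : ℕ, ∃ nu : Module.End ℤ X, lam ^ (i + n + d) - lam ^ (i + n) = (p : ℤ) • nu := by
    intro n
    refine ⟨lam ^ n * mu, ?_⟩
    have : lam ^ (i + n + d) - lam ^ (i + n) = lam ^ n * (lam ^ (i + d) - lam ^ i) := by
      rw [mul_sub, ← pow_add, ← pow_add]
      congr 2 <;> ring
    rw [this, hmu, mul_smul_comm]
  have h2 : ∀ t n : ℕ, ∃ nu : Module.End ℤ X,
      lam ^ (i + n + t * d) - lam ^ (i + n) = (p : ℤ) • nu := by
    intro t
    induction t with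
    | zero =>
      intro n
      exact ⟨0, by simp⟩
    | succ t ih =>
      intro n
      obtain ⟨nu1, hnu1⟩ := ih n
      obtain ⟨nu2, hnu2⟩ := h1 (n + t * d)
      refine ⟨nu2 + nu1, ?_⟩
      have : lam ^ (i + n + (t + 1) * d) - lam ^ (i + n)
          = (lam ^ (i + (n + t * d) + d) - lam ^ (i + (n + t * d)))
            + (lam ^ (i + n + t * d) - lam ^ (i + n)) := by
        have e1 : i + n + (t + 1) * d = i + (n + t * d) + d := by ring
        have e2 : i + (n + t * d) = i + n + t * d := by ring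
        rw [e1, e2]
        abel
      rw [this, hnu1, hnu2, smul_add]
  -- `m = (i + 1) * d = i + n` with `n = (i + 1) * d - i`
  obtain ⟨n, hn⟩ : ∃ n, (i + 1) * d = i + n := ⟨(i + 1) * d - i, by
    have : i ≤ (i + 1) * d := by nlinarith
    omega⟩
  obtain ⟨nu, hnu⟩ := h2 (i + 1) n
  refine ⟨(i + 1) * d, by nlinarith, nu, ?_⟩
  rw [← pow_add, ← hnu, hn]

/-- the Newton step `lam ↦ 3 lam² - 2 lam³` -/
theorem newton_identity (x : Module.End ℤ X) :
    ((3 : ℤ) • x ^ 2 - (2 : ℤ) • x ^ 3) * ((3 : ℤ) • x ^ 2 - (2 : ℤ) • x ^ 3)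
        - ((3 : ℤ) • x ^ 2 - (2 : ℤ) • x ^ 3)
      = (x * x - x) * (x * x - x) * ((4 : ℤ) • x ^ 2 - (4 : ℤ) • x - 3) := by
  noncomm_ring

theorem newton_step (a : ℤ) (lam mu : Module.End ℤ X) (h : lam * lam - lam = a • mu) :
    ∃ mu' : Module.End ℤ X,
      ((3 : ℤ) • lam ^ 2 - (2 : ℤ) • lam ^ 3) * ((3 : ℤ) • lam ^ 2 - (2 : ℤ) • lam ^ 3)
        - ((3 : ℤ) • lam ^ 2 - (2 : ℤ) • lam ^ 3) = (a * a) • mu' := by
  refine ⟨mu * mu * ((4 : ℤ) • lam ^ 2 - (4 : ℤ) • lam - 3), ?_⟩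
  rw [newton_identity, h, smul_mul_smul_comm, smul_mul_assoc]

theorem approx_idem (p : ℕ) [Fact p.Prime] (σ : X →ₗ[ℤ] X) (S : Subring (Module.End ℤ X))
    (lam0 : Module.End ℤ X) (h0 : lam0 ∈ S) (c : ℤ) (hc : ¬ (p : ℤ) ∣ c)
    (fA : QA p σ →ₗ[ℤ] QA p σ) (fB : QB p σ →ₗ[ℤ] QB p σ)
    (hfA : fA ∘ₗ fA = fA) (hfB : fB ∘ₗ fB = fB)
    (hA : IndA p σ lam0 (c • fA)) (hB : IndB p σ lam0 (c • fB)) (k : ℕ) :
    ∃ lam ∈ S, ∃ mu : Module.End ℤ X, lam ∘ₗ lam - lam = ((p : ℤ) ^ k) • mu ∧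
      IndA p σ lam fA ∧ IndB p σ lam fB := by
  have hp : p.Prime := Fact.out
  have hpZ : Prime (p : ℤ) := Nat.prime_iff_prime_int.mp hp
  -- Step 1: remove `c`
  obtain ⟨a, b, hab⟩ := (hpZ.coprime_iff_not_dvd.2 hc)
  have hA1 : IndA p σ (b • lam0) fA := by
    have h1 := hA.smul b
    have h2 : b • c • fA = fA := by
      apply LinearMap.ext
      intro x
      have hx : (b * c) • fA x = fA x := by
        have e : b * c = 1 - a * (p : ℤ) := by linarith
        rw [e, sub_smul, one_smul, mul_smul, p_smul_QA, smul_zero, sub_zero]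
      rw [LinearMap.smul_apply, LinearMap.smul_apply, smul_smul]
      exact hx
    rw [h2] at h1
    exact h1
  have hB1 : IndB p σ (b • lam0) fB := by
    have h1 := hB.smul b
    have h2 : b • c • fB = fB := by
      apply LinearMap.ext
      intro x
      have hx : (b * c) • fB x = fB x := by
        have e : b * c = 1 - a * (p : ℤ) := by linarith
        rw [e, sub_smul, one_smul, mul_smul, p_smul_QB, smul_zero, sub_zero]
      rw [LinearMap.smul_apply, LinearMap.smul_apply, smul_smul]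
      exact hx
    rw [h2] at h1
    exact h1
  have hS1 : b • lam0 ∈ S := zsmul_mem h0 b
  -- idempotency of the induced maps
  have hfA2 : ∀ n : ℕ, 1 ≤ n → fA ^ n = fA := by
    intro n hn
    induction n, hn using Nat.le_induction with
    | base => exact pow_one fA
    | succ n _ ih => rw [pow_succ, ih]; exact hfA
  have hfB2 : ∀ n : ℕ, 1 ≤ n → fB ^ n = fB := by
    intro n hn
    induction n, hn using Nat.le_induction with
    | base => exact pow_one fB
    | succ n _ ih => rw [pow_succ, ih]; exact hfB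
  -- Steps 2 and 3: for all `k ≥ 1`
  have key : ∀ k : ℕ, 1 ≤ k → ∃ lam ∈ S, ∃ mu : Module.End ℤ X,
      lam * lam - lam = ((p : ℤ) ^ k) • mu ∧ IndA p σ lam fA ∧ IndB p σ lam fB := by
    intro k hk
    induction k, hk using Nat.le_induction with
    | base =>
      obtain ⟨m, hm, mu, hmu⟩ := exists_pow_idem p (b • lam0)
      refine ⟨(b • lam0) ^ m, pow_mem hS1 m, mu, ?_, ?_, ?_⟩
      · rw [pow_one]; exact hmu
      · have := hA1.pow m
        rw [hfA2 m hm] at this
        exact this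
      · have := hB1.pow m
        rw [hfB2 m hm] at this
        exact this
    | succ k hk ih =>
      obtain ⟨lam, hlamS, mu, hmu, hlA, hlB⟩ := ih
      obtain ⟨mu', hmu'⟩ := newton_step ((p : ℤ) ^ k) lam mu hmu
      refine ⟨(3 : ℤ) • lam ^ 2 - (2 : ℤ) • lam ^ 3,
        sub_mem (zsmul_mem (pow_mem hlamS 2) 3) (zsmul_mem (pow_mem hlamS 3) 2),
        ((p : ℤ) ^ (k - 1)) • mu', ?_, ?_, ?_⟩
      · rw [hmu', smul_smul]
        congr 1
        have e : k = (k - 1) + 1 := by omega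
        rw [pow_succ]
        nth_rewrite 2 [e]
        rw [pow_succ]
        ring
      · have h1 := ((hlA.pow 2).smul 3).sub ((hlA.pow 3).smul 2)
        rw [hfA2 2 (by norm_num), hfA2 3 (by norm_num)] at h1
        have h2 : (3 : ℤ) • fA - (2 : ℤ) • fA = fA := by
          rw [← sub_smul]; norm_num
        rw [h2] at h1
        exact h1
      · have h1 := ((hlB.pow 2).smul 3).sub ((hlB.pow 3).smul 2)
        rw [hfB2 2 (by norm_num), hfB2 3 (by norm_num)] at h1
        have h2 : (3 : ℤ) • fB - (2 : ℤ) • fB = fB := by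
          rw [← sub_smul]; norm_num
        rw [h2] at h1
        exact h1
  rcases Nat.eq_zero_or_pos k with hk0 | hkpos
  · subst hk0
    obtain ⟨lam, hlamS, mu, hmu, hlA, hlB⟩ := key 1 le_rfl
    refine ⟨lam, hlamS, ((p : ℤ) ^ 1) • mu, ?_, hlA, hlB⟩
    rw [pow_zero, one_smul]
    exact hmu
  · obtain ⟨lam, hlamS, mu, hmu, hlA, hlB⟩ := key k hkpos
    exact ⟨lam, hlamS, mu, hmu, hlA, hlB⟩

end Cfsg.Agent.Lib.Helper79.DOAI
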