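import Mathlib
import Cfsg.Prelude.Def_Blocks
import Cfsg.Agent.Lib.Helper80.Galois
import Cfsg.Agent.Lib.Helper82.CharCore
import Cfsg.Agent.Lib.Helper82.GalPrin

/-!
# Defect one, piece GO: the Galois orbit of an irreducible character (helper79)

`exists_orbit_fun`: the Galois orbit `S` of an irreducible character `χ` and the integer valued
class function `c g = ∑_{ψ ∈ S} ψ 1 * ψ g⁻¹`.
-/

set_option autoImplicit false

namespace Cfsg.Agent.Lib.Helper79.DO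

open Cfsg

variable {G : Type*} [Group G] [Fintype G]

theorem galConj_galConj (u k : ℕ) (hu : Nat.Coprime u (Nat.card G))
    (hk : Nat.Coprime k (Nat.card G)) (χ : Cfsg.IrrCharacter G) :
    Cfsg.Agent.Lib.Helper80.galConj u hu (Cfsg.Agent.Lib.Helper80.galConj k hk χ) =
      Cfsg.Agent.Lib.Helper80.galConj (k * u) (Nat.Coprime.mul_left hk hu) χ := by
  apply Subtype.ext
  funext g
  simp only [Cfsg.Agent.Lib.Helper80.galConj_apply]
  rw [← pow_mul, mul_comm]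

theorem exists_orbit_fun (χ : Cfsg.IrrCharacter G) :
    ∃ (S : Finset (Cfsg.IrrCharacter G)) (c : G → ℤ), χ ∈ S ∧
      (∀ ψ ∈ S, ∃ (k : ℕ) (hk : Nat.Coprime k (Nat.card G)),
        ψ = Cfsg.Agent.Lib.Helper80.galConj k hk χ) ∧
      (∀ g, (c g : ℂ) = ∑ ψ ∈ S, (ψ : G → ℂ) 1 * (ψ : G → ℂ) g⁻¹) := by
  classical
  haveI : Finite (Cfsg.IrrCharacter G) := Cfsg.Agent.Lib.Helper82.finite_irrCharacter G
  letI : Fintype (Cfsg.IrrCharacter G) := Fintype.ofFinite _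
  obtain ⟨S, hS⟩ : ∃ S : Finset (Cfsg.IrrCharacter G), S = Finset.univ.filter
      (fun ψ => ∃ (k : ℕ) (hk : Nat.Coprime k (Nat.card G)),
        ψ = Cfsg.Agent.Lib.Helper80.galConj k hk χ) := ⟨_, rfl⟩
  have hmem : ∀ ψ, ψ ∈ S ↔ ∃ (k : ℕ) (hk : Nat.Coprime k (Nat.card G)),
      ψ = Cfsg.Agent.Lib.Helper80.galConj k hk χ := by
    intro ψ
    rw [hS, Finset.mem_filter]
    simp
  -- forward stability
  have hfw : ∀ (u : ℕ) (hu : Nat.Coprime u (Nat.card G)) (ψ : Cfsg.IrrCharacter G),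
      ψ ∈ S → Cfsg.Agent.Lib.Helper80.galConj u hu ψ ∈ S := by
    intro u hu ψ hψ
    obtain ⟨k, hk, rfl⟩ := (hmem ψ).mp hψ
    rw [galConj_galConj]
    exact (hmem _).mpr ⟨_, _, rfl⟩
  have hB : ∀ (u : ℕ) (hu : Nat.Coprime u (Nat.card G)) (ψ : Cfsg.IrrCharacter G),
      Cfsg.Agent.Lib.Helper80.galConj u hu ψ ∈ (S : Set (Cfsg.IrrCharacter G)) ↔
        ψ ∈ (S : Set (Cfsg.IrrCharacter G)) := by
    intro u hu ψ
    simp only [Finset.mem_coe]
    refine ⟨fun h => ?_, hfw u hu ψ⟩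
    -- `galConj u` maps `S` injectively into `S`, hence onto `S`
    have hinj : Set.InjOn (Cfsg.Agent.Lib.Helper80.galConj (G := G) u hu)
        (S : Set (Cfsg.IrrCharacter G)) :=
      (Cfsg.Agent.Lib.Helper82.galConj_injective u hu).injOn
    have hmaps : Set.MapsTo (Cfsg.Agent.Lib.Helper80.galConj (G := G) u hu)
        (S : Set (Cfsg.IrrCharacter G)) (S : Set (Cfsg.IrrCharacter G)) :=
      fun ψ hψ => hfw u hu ψ hψ
    have hsurj : Set.SurjOn (Cfsg.Agent.Lib.Helper80.galConj (G := G) u hu)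
        (S : Set (Cfsg.IrrCharacter G)) (S : Set (Cfsg.IrrCharacter G)) :=
      Finset.surjOn_of_injOn_of_card_le _ hmaps hinj le_rfl
    obtain ⟨ψ', hψ', he⟩ := hsurj h
    have := Cfsg.Agent.Lib.Helper82.galConj_injective u hu he
    rw [← this]
    exact hψ'
  have hint : ∀ g : G, ∃ z : ℤ, (z : ℂ) = ∑ ψ ∈ S, (ψ : G → ℂ) 1 * (ψ : G → ℂ) g⁻¹ := by
    intro g
    obtain ⟨z, hz⟩ := Cfsg.Agent.Lib.Helper82.galStable_sum_int
      (S : Set (Cfsg.IrrCharacter G)) hB 1 g⁻¹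
    refine ⟨z, ?_⟩
    rw [← hz, ← Finset.sum_filter]
    refine Finset.sum_congr ?_ fun _ _ => rfl
    ext ψ
    simp
  choose c hc using hint
  refine ⟨S, c, ?_, fun ψ hψ => (hmem ψ).mp hψ, hc⟩
  refine (hmem χ).mpr ⟨1, Nat.coprime_one_left _, ?_⟩
  apply Subtype.ext
  funext g
  simp only [Cfsg.Agent.Lib.Helper80.galConj_apply, pow_one]

end Cfsg.Agent.Lib.Helper79.DO
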