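import Mathlib
import Cfsg.Agent.Lib.Helper79.Prin2

/-!
# The principal block part at the identity for a group with a normal `p`-complement (helper79)
-/

set_option autoImplicit false

namespace Cfsg.Agent.Lib.Helper79

open Cfsg Cfsg.Agent.Lib.Helper4 Cfsg.Agent.Lib.Helper21 Cfsg.Agent.Lib.Helper22
open scoped ComplexConjugate

section PNilpotent

variable {H : Type*} [Group H] [Finite H] {p : ℕ} [Fact p.Prime] {M : Ideal AlgInt}

open scoped Classical in
/-- With a normal `p`-complement `K` of index `p ^ j`: the kernel of the principal block at the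
identity is `p ^ j` times the indicator of `K`. -/
theorem principal_kernel_of_index (hM : IsPModular p M) (j : ℕ)
    (hidx : (pPrimeCore p H).index = p ^ j) (x : H) :
    ∑ᶠ χ ∈ principalBlock M H, (χ : H → ℂ) 1 * conj ((χ : H → ℂ) x) =
      if x ∈ pPrimeCore p H then ((p ^ j : ℕ) : ℂ) else 0 := by
  letI := Fintype.ofFinite H
  haveI := irr_finite (G := H)
  letI := Fintype.ofFinite (IrrCharacter H)
  haveI hKn : (pPrimeCore p H).Normal := Cfsg.Agent.Lib.Helper81.pPrimeCore_normal p
  letI : Fintype (H ⧸ pPrimeCore p H) := Fintype.ofFinite _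
  haveI := irr_finite (G := H ⧸ pPrimeCore p H)
  letI := Fintype.ofFinite (IrrCharacter (H ⧸ pPrimeCore p H))
  rw [finsum_mem_eq_sum_filter_univ]
  have h1 : ∑ χ ∈ Finset.univ.filter (· ∈ principalBlock M H),
      (χ : H → ℂ) 1 * conj ((χ : H → ℂ) x) =
      ∑ ψ : IrrCharacter (H ⧸ pPrimeCore p H),
        (ψ : H ⧸ pPrimeCore p H → ℂ) 1 *
          conj ((ψ : H ⧸ pPrimeCore p H → ℂ) (x : H ⧸ pPrimeCore p H)) := by
    symm
    apply Finset.sum_bij (fun ψ _ => Cfsg.Agent.Lib.Helper83.inflate (pPrimeCore p H) ψ)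
    · intro ψ _
      rw [Finset.mem_filter]
      exact ⟨Finset.mem_univ _, (mem_principal_iff_of_index hM j hidx _).mpr
        (Cfsg.Agent.Lib.Helper83.inflate_ker (pPrimeCore p H) ψ)⟩
    · intro a _ b _ h
      exact Cfsg.Agent.Lib.Helper83.inflate_injective (pPrimeCore p H) h
    · intro χ hχ
      obtain ⟨ψ, hψ⟩ := Cfsg.Agent.Lib.Helper83.exists_inflate_eq (pPrimeCore p H) χ
        ((mem_principal_iff_of_index hM j hidx χ).mp (Finset.mem_filter.mp hχ).2)
      exact ⟨ψ, Finset.mem_univ _, hψ⟩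
    · intro ψ _
      rw [Cfsg.Agent.Lib.Helper83.inflate_one, Cfsg.Agent.Lib.Helper83.inflate_apply]
  rw [h1, col_orth]
  have h2 : Subgroup.centralizer ({1} : Set (H ⧸ pPrimeCore p H)) = ⊤ := by
    ext y
    simp [Subgroup.mem_centralizer_iff]
  have h3 : IsConj (1 : H ⧸ pPrimeCore p H) (x : H ⧸ pPrimeCore p H) ↔ x ∈ pPrimeCore p H := by
    rw [isConj_one_right, QuotientGroup.eq_one_iff]
  by_cases hx : x ∈ pPrimeCore p H
  · rw [if_pos hx, if_pos (h3.mpr hx), h2, Subgroup.card_top, ← Subgroup.index_eq_card, hidx]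
  · rw [if_neg hx, if_neg (fun h => hx (h3.mp h))]

/-- With a normal `p`-complement `K` of index `p ^ j`: the principal block part of a function at
the identity is `p ^ j / #H` times its sum over `K`. -/
theorem blockPart_principal_one_of_index (hM : IsPModular p M) (j : ℕ)
    (hidx : (pPrimeCore p H).index = p ^ j) (θ : H → ℂ) :
    blockPart (principalBlock M H) θ 1 = (Nat.card H : ℂ)⁻¹ * (((p ^ j : ℕ) : ℂ) *
      ∑ᶠ x ∈ ((pPrimeCore p H : Subgroup H) : Set H), θ x) := by
  classical
  letI := Fintype.ofFinite H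
  haveI := irr_finite (G := H)
  letI := Fintype.ofFinite (IrrCharacter H)
  rw [blockPart_eq_kernel]
  congr 1
  rw [finsum_mem_eq_sum_filter_univ, Finset.sum_filter, Finset.mul_sum]
  refine Finset.sum_congr rfl fun x _ => ?_
  have h1 := principal_kernel_of_index hM j hidx x
  rw [finsum_mem_eq_sum_filter_univ, Finset.sum_filter] at h1
  have h2 : ∑ ψ : IrrCharacter H,
      (if ψ ∈ principalBlock M H then (ψ : H → ℂ) 1 * conj ((ψ : H → ℂ) x) else 0) =
      if x ∈ pPrimeCore p H then ((p ^ j : ℕ) : ℂ) else 0 := by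
    convert h1 using 2
  rw [h2]
  by_cases hx : x ∈ pPrimeCore p H
  · have hx' : x ∈ ((pPrimeCore p H : Subgroup H) : Set H) := hx
    rw [if_pos hx, if_pos hx', mul_comm]
  · have hx' : x ∉ ((pPrimeCore p H : Subgroup H) : Set H) := hx
    rw [if_neg hx, if_neg hx', mul_zero, mul_zero]

end PNilpotent

end Cfsg.Agent.Lib.Helper79
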