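import Mathlib
import Cfsg.Agent.Lib.Helper79.Prin3

/-!
# Defect one, pieces CL2 / CL3 (helper79)

For a group `G` whose Sylow `p`-subgroup `P` has order `p`, `z` a generator of `P`, `p ∤ t`:

* `prin_star`: the characters of the principal block take the same value on `z ^ t * y` and
  `z ^ t`, for `p`-regular `y` commuting with `z`;
* `prin_norm`: `∑_{θ ∈ B₀} |θ (z ^ t)|² = p`.
-/

set_option autoImplicit false

namespace Cfsg.Agent.Lib.Helper79.DO

open Cfsg Cfsg.Agent.Lib.Helper4 Cfsg.Agent.Lib.Helper21 Cfsg.Agent.Lib.Helper22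
open scoped ComplexConjugate

section Burnside

variable {H : Type*} [Group H] [Finite H] {p : ℕ} [Fact p.Prime]

/-- Burnside's transfer theorem in terms of the `p'`-core: if a Sylow `p`-subgroup is central
in its normalizer, the `p'`-core has index the order of the Sylow subgroup. -/
theorem pPrimeCore_index_of_normalizer_le (PH : Sylow p H)
    (hN : Subgroup.normalizer ((PH : Subgroup H) : Set H) ≤
      Subgroup.centralizer ((PH : Subgroup H) : Set H)) (j : ℕ)
    (hj : Nat.card (PH : Subgroup H) = p ^ j) :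
    (pPrimeCore p H).index = p ^ j := by
  have hp : p.Prime := Fact.out
  have hcompl : Subgroup.IsComplement' (MonoidHom.transferSylow PH hN).ker (PH : Subgroup H) :=
    MonoidHom.ker_transferSylow_isComplement' PH hN
  have hcard : ¬ p ∣ Nat.card (MonoidHom.transferSylow PH hN).ker :=
    MonoidHom.not_dvd_card_ker_transferSylow PH hN
  have hKn : (MonoidHom.transferSylow PH hN).ker.Normal := MonoidHom.normal_ker _
  have hcop : (Nat.card (MonoidHom.transferSylow PH hN).ker).Coprime p :=
    (Nat.coprime_comm.mp ((Nat.Prime.coprime_iff_not_dvd hp).mpr hcard))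
  have hle : (MonoidHom.transferSylow PH hN).ker ≤ pPrimeCore p H :=
    Cfsg.Agent.Lib.Helper81.le_pPrimeCore p _ hKn hcop
  have hidx : (MonoidHom.transferSylow PH hN).ker.index = Nat.card (PH : Subgroup H) :=
    hcompl.symm.index_eq_card
  have hdvd : (pPrimeCore p H).index ∣ (MonoidHom.transferSylow PH hN).ker.index :=
    Subgroup.index_dvd_of_le hle
  rw [hidx, hj] at hdvd
  obtain ⟨k, -, hk⟩ := (Nat.dvd_prime_pow hp).mp hdvd
  have h1 := factorization_card_of_index (H := H) (p := p) k hk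
  have h2 := PH.card_eq_multiplicity
  rw [hj, h1] at h2
  rw [hk]
  exact (h2).symm

end Burnside

section Setup

variable {G : Type*} [Group G] [Finite G] {p : ℕ} [Fact p.Prime]

theorem orderOf_pow_of_sylow (P : Sylow p G) (hP : Nat.card (P : Subgroup G) = p)
    (z : G) (hz : z ∈ (P : Subgroup G)) (hz1 : z ≠ 1) (t : ℕ) (ht : ¬ p ∣ t) :
    orderOf (z ^ t) = p := by
  have hp : p.Prime := Fact.out
  have h1 : orderOf z ∣ p := by
    rw [← hP]
    exact Subgroup.orderOf_dvd_natCard _ hz
  have h2 : orderOf z = p := by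
    rcases (Nat.dvd_prime hp).mp h1 with h | h
    · exact absurd (orderOf_eq_one_iff.mp h) hz1
    · exact h
  rw [Nat.Coprime.orderOf_pow, h2]
  rw [h2]
  exact (Nat.Prime.coprime_iff_not_dvd hp).mpr ht

theorem sylow_eq_zpowers (P : Sylow p G) (hP : Nat.card (P : Subgroup G) = p)
    (u : G) (hu : u ∈ (P : Subgroup G)) (hu1 : orderOf u = p) :
    (P : Subgroup G) = Subgroup.zpowers u := by
  symm
  apply Subgroup.eq_of_le_of_card_ge
  · rw [Subgroup.zpowers_le]
    exact hu
  · rw [Nat.card_zpowers, hu1, hP]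

theorem sylow_le_centralizer (P : Sylow p G) (hP : Nat.card (P : Subgroup G) = p)
    (u : G) (hu : u ∈ (P : Subgroup G)) (hu1 : orderOf u = p) :
    (P : Subgroup G) ≤ Subgroup.centralizer ({u} : Set G) := by
  rw [sylow_eq_zpowers P hP u hu hu1]
  intro x hx
  obtain ⟨k, rfl⟩ := Subgroup.mem_zpowers_iff.mp hx
  rw [Subgroup.mem_centralizer_iff]
  intro w hw
  rw [Set.mem_singleton_iff] at hw
  subst hw
  exact (Commute.zpow_right (Commute.refl w) k).eq

/-- The centralizer of a generator of a Sylow `p`-subgroup of order `p` has a normal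
`p`-complement. -/
theorem centralizer_pPrimeCore_index (P : Sylow p G) (hP : Nat.card (P : Subgroup G) = p)
    (u : G) (hu : u ∈ (P : Subgroup G)) (hu1 : orderOf u = p) :
    (pPrimeCore p (Subgroup.centralizer ({u} : Set G))).index = p ^ 1 := by
  have hPH := sylow_le_centralizer P hP u hu hu1
  have hPz := sylow_eq_zpowers P hP u hu hu1
  apply pPrimeCore_index_of_normalizer_le (P.subtype hPH)
  · intro n _
    rw [Subgroup.mem_centralizer_iff]
    intro x hx
    have hx' : (x : G) ∈ (P : Subgroup G) := by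
      rw [SetLike.mem_coe, Sylow.coe_subtype, Subgroup.mem_subgroupOf] at hx
      exact hx
    rw [hPz] at hx'
    obtain ⟨k, hk⟩ := Subgroup.mem_zpowers_iff.mp hx'
    have hn2 : (n : G) ∈ Subgroup.centralizer ({u} : Set G) := n.2
    rw [Subgroup.mem_centralizer_iff] at hn2
    have hnu : Commute u (n : G) := hn2 u rfl
    apply Subtype.ext
    push_cast
    rw [← hk]
    exact (Commute.zpow_left hnu k).eq
  · rw [pow_one, Sylow.coe_subtype]
    exact (Nat.card_congr (Subgroup.subgroupOfEquivOfLe hPH).toEquiv).trans hP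

end Setup

section Main

variable {G : Type*} [Group G] [Fintype G] (p : ℕ) [Fact p.Prime] (M : Ideal AlgInt)

theorem prin_norm (hM : IsPModular p M) (P : Sylow p G) (hP : Nat.card P = p)
    (z : G) (hz : z ∈ (P : Subgroup G)) (hz1 : z ≠ 1) (t : ℕ) (ht : ¬ p ∣ t) :
    ∑ᶠ θ ∈ principalBlock M G, (θ : G → ℂ) (z ^ t) * conj ((θ : G → ℂ) (z ^ t)) = (p : ℂ) := by
  have hu1 : orderOf (z ^ t) = p := orderOf_pow_of_sylow P hP z hz hz1 t ht
  have hu : z ^ t ∈ (P : Subgroup G) := Subgroup.pow_mem _ hz t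
  have hidx := centralizer_pPrimeCore_index P hP (z ^ t) hu hu1
  have h1 := principal_norm_sum (M := M) hM (z ^ t) ⟨1, by rw [hu1, pow_one]⟩
    (1 : Subgroup.centralizer ({z ^ t} : Set G))
    (by rw [orderOf_one]; exact (Fact.out : p.Prime).one_lt.ne' ∘ Nat.dvd_one.mp)
  have h2 := principal_sum_of_index (M := M) hM 1 hidx
    (1 : Subgroup.centralizer ({z ^ t} : Set G))
    (by rw [orderOf_one]; exact (Fact.out : p.Prime).one_lt.ne' ∘ Nat.dvd_one.mp)
  rw [h2] at h1
  simp only [OneMemClass.coe_one, mul_one, pow_one] at h1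
  exact h1

theorem prin_star (hM : IsPModular p M) (P : Sylow p G) (hP : Nat.card P = p)
    (z : G) (hz : z ∈ (P : Subgroup G)) (hz1 : z ≠ 1)
    (θ : IrrCharacter G) (hθ : θ ∈ principalBlock M G) (t : ℕ) (ht : ¬ p ∣ t)
    (y : G) (hy : y * z = z * y) (hyp : ¬ p ∣ orderOf y) :
    (θ : G → ℂ) (z ^ t * y) = (θ : G → ℂ) (z ^ t) := by
  classical
  have hp : p.Prime := Fact.out
  have hu1 : orderOf (z ^ t) = p := orderOf_pow_of_sylow P hP z hz hz1 t ht
  have hu : z ^ t ∈ (P : Subgroup G) := Subgroup.pow_mem _ hz t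
  have hidx := centralizer_pPrimeCore_index P hP (z ^ t) hu hu1
  have hyC : y ∈ Subgroup.centralizer ({z ^ t} : Set G) := by
    rw [Subgroup.mem_centralizer_iff]
    intro w hw
    rw [Set.mem_singleton_iff] at hw
    subst hw
    have hc : Commute y z := hy
    exact ((Commute.pow_right hc t).eq).symm
  have hone : ¬ p ∣ orderOf (1 : Subgroup.centralizer ({z ^ t} : Set G)) := by
    rw [orderOf_one]; exact hp.one_lt.ne' ∘ Nat.dvd_one.mp
  have hyp' : ¬ p ∣ orderOf (⟨y, hyC⟩ : Subgroup.centralizer ({z ^ t} : Set G)) := by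
    rw [Subgroup.orderOf_mk]; exact hyp
  have h1 := twist_eq_blockPart_principal (M := M) hM (z ^ t) ⟨1, by rw [hu1, pow_one]⟩ θ hθ
    ⟨y, hyC⟩ hyp'
  have h2 := twist_eq_blockPart_principal (M := M) hM (z ^ t) ⟨1, by rw [hu1, pow_one]⟩ θ hθ
    1 hone
  simp only [OneMemClass.coe_one, mul_one] at h2
  rw [h1, h2]
  letI : Fintype (Subgroup.centralizer ({z ^ t} : Set G)) := Fintype.ofFinite _
  haveI := irr_finite (G := Subgroup.centralizer ({z ^ t} : Set G))
  letI := Fintype.ofFinite (IrrCharacter (Subgroup.centralizer ({z ^ t} : Set G)))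
  haveI hKn : (pPrimeCore p (Subgroup.centralizer ({z ^ t} : Set G))).Normal :=
    Cfsg.Agent.Lib.Helper81.pPrimeCore_normal p
  have hyK : (⟨y, hyC⟩ : Subgroup.centralizer ({z ^ t} : Set G)) ∈
      pPrimeCore p (Subgroup.centralizer ({z ^ t} : Set G)) :=
    (mem_iff_pRegular_of_index (pPrimeCore p (Subgroup.centralizer ({z ^ t} : Set G))) 1 hidx
      (Cfsg.Agent.Lib.Helper81.pPrimeCore_coprime p) _).mpr hyp'
  rw [blockPart_eq_kernel, blockPart_eq_kernel]
  congr 1
  refine Finset.sum_congr rfl fun x _ => ?_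
  congr 1
  refine Finset.sum_congr rfl fun ψ _ => ?_
  by_cases hψ : ψ ∈ principalBlock M (Subgroup.centralizer ({z ^ t} : Set G))
  · rw [if_pos hψ, if_pos hψ, (mem_principal_iff_of_index hM 1 hidx ψ).mp hψ _ hyK]
  · rw [if_neg hψ, if_neg hψ]

end Main

end Cfsg.Agent.Lib.Helper79.DO
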