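import Mathlib
import Cfsg.Agent.S0807
import Cfsg.Agent.S0808

/-!
# Project RC (helper48, S1152 + S1157), piece RC-PSLN: the normaliser of a four-group in
`PSL_2(q)`, `q ≡ 3 mod 8`, has order 12 (from S0807 and S0808).
-/

set_option autoImplicit false

namespace Cfsg.Agent.Lib.Helper48.RC

-- piece RC-PSLN   (from `Cfsg.Agent.S0807.result` and `Cfsg.Agent.S0808.result`)
theorem psl2_normalizer_klein {F : Type*} [Field F] [Fintype F]
    (hq : Fintype.card F % 8 = 3)
    (V : Subgroup (Matrix.ProjectiveSpecialLinearGroup (Fin 2) F)) (hV : IsKleinFour V) :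
    Nat.card (Subgroup.normalizer (V : Set (Matrix.ProjectiveSpecialLinearGroup (Fin 2) F))) =
      12 := by
  classical
  have hodd : Odd (Fintype.card F) := by
    rw [Nat.odd_iff]
    omega
  have h807 := Cfsg.Agent.S0807.result (F := F) rfl hodd
  have h808 := (Cfsg.Agent.S0808.result (F := F) rfl hodd).1 (Or.inl hq)
  haveI : Finite (Matrix.ProjectiveSpecialLinearGroup (Fin 2) F) := inferInstance
  haveI : Fintype (Matrix.ProjectiveSpecialLinearGroup (Fin 2) F) := Fintype.ofFinite _
  haveI : Fintype (Subgroup (Matrix.ProjectiveSpecialLinearGroup (Fin 2) F)) :=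
    Fintype.ofFinite _
  have horb := Cfsg.Agent.S0808.orbit_card V
  have himg : Finset.univ.image
      (fun x : Matrix.ProjectiveSpecialLinearGroup (Fin 2) F => Cfsg.Agent.S0808.cj x V)
      = Finset.univ.filter
        (fun W : Subgroup (Matrix.ProjectiveSpecialLinearGroup (Fin 2) F) => IsKleinFour W) := by
    ext W
    simp only [Finset.mem_image, Finset.mem_univ, true_and, Finset.mem_filter]
    constructor
    · rintro ⟨g, rfl⟩
      exact Cfsg.Agent.S0808.cj_klein g V hV
    · intro hW
      obtain ⟨g, hg⟩ := h808 V W hV hW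
      exact ⟨g, hg.symm⟩
  rw [himg] at horb
  have hK : Nat.card {W : Subgroup (Matrix.ProjectiveSpecialLinearGroup (Fin 2) F) //
      IsKleinFour W} = (Finset.univ.filter
        (fun W : Subgroup (Matrix.ProjectiveSpecialLinearGroup (Fin 2) F) =>
          IsKleinFour W)).card := by
    rw [Nat.card_eq_fintype_card, Fintype.card_subtype]
  have hG : Nat.card (Matrix.ProjectiveSpecialLinearGroup (Fin 2) F)
      = Fintype.card (Matrix.ProjectiveSpecialLinearGroup (Fin 2) F) := Nat.card_eq_fintype_card
  rw [hK, hG] at h807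
  have hkpos : 0 < (Finset.univ.filter
      (fun W : Subgroup (Matrix.ProjectiveSpecialLinearGroup (Fin 2) F) =>
        IsKleinFour W)).card :=
    Finset.card_pos.mpr ⟨V, Finset.mem_filter.mpr ⟨Finset.mem_univ _, hV⟩⟩
  have h3 : (Finset.univ.filter
      (fun W : Subgroup (Matrix.ProjectiveSpecialLinearGroup (Fin 2) F) =>
        IsKleinFour W)).card *
      Nat.card (Subgroup.normalizer (V : Set (Matrix.ProjectiveSpecialLinearGroup (Fin 2) F)))
      = (Finset.univ.filter
      (fun W : Subgroup (Matrix.ProjectiveSpecialLinearGroup (Fin 2) F) =>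
        IsKleinFour W)).card * 12 := by
    rw [horb, ← h807, mul_comm]
  exact Nat.eq_of_mul_eq_mul_left hkpos h3

end Cfsg.Agent.Lib.Helper48.RC
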