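import Mathlib

set_option autoImplicit false

namespace Cfsg.Agent.Lib.Helper79

open Matrix

section Avg

variable {G : Type*} [Group G] [Fintype G] {n : ℕ} {k : Type*} [Field k]

/-- The averaging operator on bilinear forms (matrices) attached to a matrix representation. -/
noncomputable def fsAvg (X : G →* Matrix (Fin n) (Fin n) k) (M : Matrix (Fin n) (Fin n) k) :
    Matrix (Fin n) (Fin n) k :=
  (Nat.card G : k)⁻¹ • ∑ g : G, (X g)ᵀ * M * X g

theorem fsAvg_invariant (X : G →* Matrix (Fin n) (Fin n) k) (M : Matrix (Fin n) (Fin n) k)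
    (h : G) : (X h)ᵀ * fsAvg X M * X h = fsAvg X M := by
  unfold fsAvg
  rw [Matrix.mul_smul, Matrix.smul_mul, Finset.mul_sum, Finset.sum_mul]
  congr 1
  conv_rhs => rw [← Equiv.sum_comp (Equiv.mulRight h)]
  refine Finset.sum_congr rfl fun g _ => ?_
  simp only [Equiv.coe_mulRight, map_mul, Matrix.transpose_mul, Matrix.mul_assoc]

theorem fsAvg_of_invariant (hG : (Nat.card G : k) ≠ 0) (X : G →* Matrix (Fin n) (Fin n) k)
    (M : Matrix (Fin n) (Fin n) k) (hM : ∀ g : G, (X g)ᵀ * M * X g = M) : fsAvg X M = M := by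
  unfold fsAvg
  simp only [hM, Finset.sum_const, Finset.card_univ]
  rw [← Nat.card_eq_fintype_card, ← Nat.cast_smul_eq_nsmul k, smul_smul, inv_mul_cancel₀ hG,
    one_smul]

theorem fsAvg_transpose (X : G →* Matrix (Fin n) (Fin n) k) (M : Matrix (Fin n) (Fin n) k) :
    (fsAvg X M)ᵀ = fsAvg X Mᵀ := by
  unfold fsAvg
  rw [Matrix.transpose_smul, Matrix.transpose_sum]
  congr 1
  refine Finset.sum_congr rfl fun g _ => ?_
  simp only [Matrix.transpose_mul, Matrix.transpose_transpose, Matrix.mul_assoc]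

theorem fsAvg_smul (X : G →* Matrix (Fin n) (Fin n) k) (c : k) (M : Matrix (Fin n) (Fin n) k) :
    fsAvg X (c • M) = c • fsAvg X M := by
  unfold fsAvg
  simp only [Matrix.mul_smul, Matrix.smul_mul, ← Finset.smul_sum]
  rw [smul_comm]

theorem fsAvg_add (X : G →* Matrix (Fin n) (Fin n) k) (M N : Matrix (Fin n) (Fin n) k) :
    fsAvg X (M + N) = fsAvg X M + fsAvg X N := by
  unfold fsAvg
  simp only [Matrix.mul_add, Matrix.add_mul, Finset.sum_add_distrib, smul_add]

theorem fsAvg_zero (X : G →* Matrix (Fin n) (Fin n) k) : fsAvg X 0 = 0 := by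
  unfold fsAvg
  simp

theorem fsAvg_sum {ι : Type*} (s : Finset ι) (X : G →* Matrix (Fin n) (Fin n) k)
    (f : ι → Matrix (Fin n) (Fin n) k) : fsAvg X (∑ i ∈ s, f i) = ∑ i ∈ s, fsAvg X (f i) := by
  classical
  induction s using Finset.induction_on with
  | empty => simp [fsAvg_zero]
  | insert a s ha ih => rw [Finset.sum_insert ha, Finset.sum_insert ha, fsAvg_add, ih]

theorem entry_single (A B : Matrix (Fin n) (Fin n) k) (i j a b : Fin n) :
    (Aᵀ * Matrix.single i j (1 : k) * B) a b = A i a * B j b := by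
  rw [Matrix.mul_apply]
  have h1 : ∀ x, (Aᵀ * Matrix.single i j (1 : k)) a x = if j = x then A i a else 0 := by
    intro x
    rw [Matrix.mul_apply]
    simp only [Matrix.transpose_apply, Matrix.single_apply]
    by_cases hx : j = x
    · subst hx; simp
    · simp [hx]
  simp only [h1, ite_mul, zero_mul, Finset.sum_ite_eq, Finset.mem_univ, if_true]

/-- First trace formula: the "trace" of the averaging operator. -/
theorem fsAvg_tau1 (X : G →* Matrix (Fin n) (Fin n) k) :
    ∑ i, ∑ j, fsAvg X (Matrix.single i j (1 : k)) i j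
      = (Nat.card G : k)⁻¹ * ∑ g : G, (X g).trace ^ 2 := by
  unfold fsAvg
  simp only [Matrix.smul_apply, Matrix.sum_apply, entry_single, smul_eq_mul]
  simp only [← Finset.mul_sum]
  congr 1
  have h1 : ∀ i : Fin n, ∑ j : Fin n, ∑ g : G, X g i i * X g j j
      = ∑ g : G, ∑ j : Fin n, X g i i * X g j j := fun i => Finset.sum_comm
  simp only [h1]
  rw [Finset.sum_comm]
  refine Finset.sum_congr rfl fun g _ => ?_
  simp only [Matrix.trace, Matrix.diag_apply, sq, Finset.sum_mul, Finset.mul_sum]
  rw [Finset.sum_comm]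

/-- Second trace formula: the "trace" of transpose composed with the averaging operator. -/
theorem fsAvg_tau2 (X : G →* Matrix (Fin n) (Fin n) k) :
    ∑ i, ∑ j, fsAvg X (Matrix.single i j (1 : k)) j i
      = (Nat.card G : k)⁻¹ * ∑ g : G, (X (g * g)).trace := by
  unfold fsAvg
  simp only [Matrix.smul_apply, Matrix.sum_apply, entry_single, smul_eq_mul]
  simp only [← Finset.mul_sum]
  congr 1
  have h1 : ∀ i : Fin n, ∑ j : Fin n, ∑ g : G, X g i j * X g j i
      = ∑ g : G, ∑ j : Fin n, X g i j * X g j i := fun i => Finset.sum_comm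
  simp only [h1]
  rw [Finset.sum_comm]
  refine Finset.sum_congr rfl fun g _ => ?_
  simp only [map_mul, Matrix.trace, Matrix.diag_apply, Matrix.mul_apply]

end Avg

end Cfsg.Agent.Lib.Helper79
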