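import Mathlib
import Cfsg.Agent.Lib.Helper79.FSAvg

set_option autoImplicit false

namespace Cfsg.Agent.Lib.Helper79

open Matrix

section RepMat

variable {G : Type*} [Group G] {n : ℕ} {k : Type*} [Field k]

/-- The matrix representation attached to a representation on `Fin n → k`. -/
noncomputable def repMat (ρ : Representation k G (Fin n → k)) :
    G →* Matrix (Fin n) (Fin n) k where
  toFun g := LinearMap.toMatrix' (ρ g)
  map_one' := by simp
  map_mul' g h := by
    rw [map_mul]
    exact LinearMap.toMatrix'_mul _ _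

theorem repMat_apply (ρ : Representation k G (Fin n → k)) (g : G) :
    repMat ρ g = LinearMap.toMatrix' (ρ g) := rfl

theorem trace_repMat (ρ : Representation k G (Fin n → k)) (g : G) :
    (repMat ρ g).trace = ρ.character g := by
  rw [Representation.character, LinearMap.trace_eq_matrix_trace k (Pi.basisFun k (Fin n)),
    LinearMap.toMatrix_eq_toMatrix']
  rfl

theorem repMat_mulVec (ρ : Representation k G (Fin n → k)) (g : G) (v : Fin n → k) :
    repMat ρ g *ᵥ v = ρ g v := by
  rw [repMat_apply, ← Matrix.toLin'_apply, Matrix.toLin'_toMatrix']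

theorem toLin'_repMat (ρ : Representation k G (Fin n → k)) (g : G) :
    Matrix.toLin' (repMat ρ g) = ρ g := by
  rw [repMat_apply, Matrix.toLin'_toMatrix']

/-- An invariant form intertwines with the contragredient. -/
theorem invariant_comm (X : G →* Matrix (Fin n) (Fin n) k) (M : Matrix (Fin n) (Fin n) k)
    (hM : ∀ g : G, (X g)ᵀ * M * X g = M) (g : G) : M * X g = (X g⁻¹)ᵀ * M := by
  have h := hM g
  calc M * X g = (X g⁻¹)ᵀ * ((X g)ᵀ * M * X g) := by
        rw [← Matrix.mul_assoc, ← Matrix.mul_assoc, ← Matrix.transpose_mul, ← map_mul,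
          mul_inv_cancel, map_one, Matrix.transpose_one, Matrix.one_mul]
    _ = (X g⁻¹)ᵀ * M := by rw [h]

theorem invariant_transpose (X : G →* Matrix (Fin n) (Fin n) k) (M : Matrix (Fin n) (Fin n) k)
    (hM : ∀ g : G, (X g)ᵀ * M * X g = M) (g : G) : (X g)ᵀ * Mᵀ * X g = Mᵀ := by
  have h := congrArg Matrix.transpose (hM g)
  simpa [Matrix.transpose_mul, Matrix.mul_assoc] using h

end RepMat

section Schur

variable {G : Type*} [Group G] {n : ℕ}

/-- A nonzero invariant form of an irreducible representation is nondegenerate. -/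
theorem isUnit_det_of_invariant (ρ : Representation ℂ G (Fin n → ℂ)) [hirr : ρ.IsIrreducible]
    (M : Matrix (Fin n) (Fin n) ℂ) (hM : ∀ g : G, (repMat ρ g)ᵀ * M * repMat ρ g = M)
    (hM0 : M ≠ 0) : IsUnit M.det := by
  by_contra hdet
  have hdet0 : M.det = 0 := by
    by_contra h
    exact hdet (isUnit_iff_ne_zero.2 h)
  obtain ⟨v, hv0, hv⟩ := Matrix.exists_mulVec_eq_zero_iff.2 hdet0
  let W : Subrepresentation ρ :=
    { toSubmodule := LinearMap.ker (Matrix.toLin' M)
      apply_mem_toSubmodule := by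
        intro g w hw
        rw [LinearMap.mem_ker, Matrix.toLin'_apply] at hw ⊢
        rw [← repMat_mulVec, Matrix.mulVec_mulVec, invariant_comm (repMat ρ) M hM g,
          ← Matrix.mulVec_mulVec, hw, Matrix.mulVec_zero] }
  have hvW : v ∈ W.toSubmodule := by
    show v ∈ LinearMap.ker (Matrix.toLin' M)
    rw [LinearMap.mem_ker, Matrix.toLin'_apply]; exact hv
  rcases eq_bot_or_eq_top W with h | h
  · rw [h] at hvW
    exact hv0 ((Submodule.mem_bot ℂ).1 hvW)
  · apply hM0
    have h1 : LinearMap.ker (Matrix.toLin' M) = ⊤ := by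
      have := congrArg Subrepresentation.toSubmodule h
      exact this
    have h2 : Matrix.toLin' M = 0 := LinearMap.ker_eq_top.1 h1
    have h3 : Matrix.toLin' M = Matrix.toLin' (0 : Matrix (Fin n) (Fin n) ℂ) := by
      rw [h2, map_zero]
    exact Matrix.toLin'.injective h3

/-- Schur: the space of invariant forms of an irreducible representation is at most
one-dimensional. -/
theorem invariant_eq_smul (ρ : Representation ℂ G (Fin n → ℂ)) [hirr : ρ.IsIrreducible]
    (M M' : Matrix (Fin n) (Fin n) ℂ) (hM : ∀ g : G, (repMat ρ g)ᵀ * M * repMat ρ g = M)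
    (hM' : ∀ g : G, (repMat ρ g)ᵀ * M' * repMat ρ g = M') (hM0 : M' ≠ 0) :
    ∃ c : ℂ, M = c • M' := by
  have hu := isUnit_det_of_invariant ρ M' hM' hM0
  have hcomm : ∀ g : G, (M'⁻¹ * M) * repMat ρ g = repMat ρ g * (M'⁻¹ * M) := by
    intro g
    have h1 : repMat ρ g * M'⁻¹ = M'⁻¹ * (repMat ρ g⁻¹)ᵀ := by
      have h2 := invariant_comm (repMat ρ) M' hM' g
      calc repMat ρ g * M'⁻¹ = M'⁻¹ * (M' * repMat ρ g) * M'⁻¹ := by
            rw [← Matrix.mul_assoc, Matrix.nonsing_inv_mul _ hu, Matrix.one_mul]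
        _ = M'⁻¹ * ((repMat ρ g⁻¹)ᵀ * M') * M'⁻¹ := by rw [h2]
        _ = M'⁻¹ * (repMat ρ g⁻¹)ᵀ := by
            rw [Matrix.mul_assoc, Matrix.mul_assoc, Matrix.mul_nonsing_inv _ hu, Matrix.mul_one]
    rw [Matrix.mul_assoc, invariant_comm (repMat ρ) M hM g, ← Matrix.mul_assoc, ← h1,
      Matrix.mul_assoc]
  let T : Representation.IntertwiningMap ρ ρ := ⟨Matrix.toLin' (M'⁻¹ * M), by
    intro g
    rw [← toLin'_repMat ρ g, ← Matrix.toLin'_mul, ← Matrix.toLin'_mul, hcomm g]⟩
  obtain ⟨a, ha⟩ :=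
    (Representation.IsIrreducible.algebraMap_intertwiningMap_bijective_of_isAlgClosed (ρ := ρ)).2 T
  have h1 : Matrix.toLin' (M'⁻¹ * M) = a • LinearMap.id := by
    have h2 := congrArg Representation.IntertwiningMap.toLinearMap ha
    rw [Representation.IntertwiningMap.algebraMap_apply] at h2
    exact h2.symm
  have h3 : M'⁻¹ * M = a • (1 : Matrix (Fin n) (Fin n) ℂ) := by
    apply Matrix.toLin'.injective
    rw [h1, map_smul, Matrix.toLin'_one]
  refine ⟨a, ?_⟩
  calc M = M' * (M'⁻¹ * M) := by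
        rw [← Matrix.mul_assoc, Matrix.mul_nonsing_inv _ hu, Matrix.one_mul]
    _ = a • M' := by rw [h3, Matrix.mul_smul, Matrix.mul_one]

end Schur

end Cfsg.Agent.Lib.Helper79
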