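import Mathlib
import Cfsg.Prelude.Def_Characters
import Cfsg.Agent.Lib.Helper4.CharExp2
import Cfsg.Agent.Lib.Helper79.FSSchur

set_option autoImplicit false

namespace Cfsg.Agent.Lib.Helper79

open Matrix
open scoped ComplexConjugate

section FS

variable {G : Type*} [Group G] [Fintype G] {n : ℕ}

/-- The Frobenius–Schur indicator of a function. -/
noncomputable def fsInd (χ : G → ℂ) : ℂ := (Nat.card G : ℂ)⁻¹ * ∑ s : G, χ (s * s)

theorem conj_eq_of_im_eq_zero {z : ℂ} (h : z.im = 0) : conj z = z :=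
  Complex.conj_eq_iff_im.2 h

/-- For a real-valued irreducible character the "trace" of the averaging operator is `1`. -/
theorem tau1_eq_one (ρ : Representation ℂ G (Fin n → ℂ)) [hirr : ρ.IsIrreducible]
    (hreal : ∀ g : G, (ρ.character g).im = 0) :
    ∑ i, ∑ j, fsAvg (repMat ρ) (Matrix.single i j (1 : ℂ)) i j = 1 := by
  classical
  rw [fsAvg_tau1]
  have h := Cfsg.Agent.Lib.Helper4.classInner_char_irr ρ ρ
  rw [if_pos ⟨Representation.Equiv.refl ρ⟩] at h
  rw [← h, Cfsg.classInner]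
  congr 1
  refine Finset.sum_congr rfl fun g _ => ?_
  rw [trace_repMat, conj_eq_of_im_eq_zero (hreal g), sq]

theorem tau2_eq_fsInd (ρ : Representation ℂ G (Fin n → ℂ)) :
    ∑ i, ∑ j, fsAvg (repMat ρ) (Matrix.single i j (1 : ℂ)) j i = fsInd ρ.character := by
  rw [fsAvg_tau2, fsInd]
  congr 1
  refine Finset.sum_congr rfl fun g _ => ?_
  rw [trace_repMat]

/-- A real-valued irreducible character has a nonzero invariant bilinear form. -/
theorem exists_invariant_of_real (ρ : Representation ℂ G (Fin n → ℂ)) [hirr : ρ.IsIrreducible]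
    (hreal : ∀ g : G, (ρ.character g).im = 0) :
    ∃ M : Matrix (Fin n) (Fin n) ℂ, M ≠ 0 ∧ ∀ g : G, (repMat ρ g)ᵀ * M * repMat ρ g = M := by
  by_contra hcon
  push Not at hcon
  have h0 : ∀ i j, fsAvg (repMat ρ) (Matrix.single i j (1 : ℂ)) = 0 := by
    intro i j
    by_contra h
    obtain ⟨g, hg⟩ := hcon _ h
    exact hg (fsAvg_invariant (repMat ρ) _ g)
  have h1 := tau1_eq_one ρ hreal
  simp only [h0, Matrix.zero_apply, Finset.sum_const_zero] at h1
  exact zero_ne_one h1

/-- If there is no nonzero invariant form, the indicator vanishes. -/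
theorem fsInd_eq_zero_of_no_invariant (ρ : Representation ℂ G (Fin n → ℂ))
    (hno : ∀ M : Matrix (Fin n) (Fin n) ℂ, (∀ g : G, (repMat ρ g)ᵀ * M * repMat ρ g = M) → M = 0) :
    fsInd ρ.character = 0 := by
  rw [← tau2_eq_fsInd]
  have h0 : ∀ i j, fsAvg (repMat ρ) (Matrix.single i j (1 : ℂ)) = 0 := fun i j =>
    hno _ (fun g => fsAvg_invariant (repMat ρ) _ g)
  simp only [h0, Matrix.zero_apply, Finset.sum_const_zero]

/-- A nonzero invariant form forces the character to be real. -/
theorem real_of_invariant (ρ : Representation ℂ G (Fin n → ℂ)) [hirr : ρ.IsIrreducible]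
    (M : Matrix (Fin n) (Fin n) ℂ) (hM0 : M ≠ 0)
    (hM : ∀ g : G, (repMat ρ g)ᵀ * M * repMat ρ g = M) (g : G) : (ρ.character g).im = 0 := by
  have hu := isUnit_det_of_invariant ρ M hM hM0
  have h1 := invariant_comm (repMat ρ) M hM g
  have h2 : repMat ρ g = M⁻¹ * ((repMat ρ g⁻¹)ᵀ * M) := by
    rw [← h1, ← Matrix.mul_assoc, Matrix.nonsing_inv_mul _ hu, Matrix.one_mul]
  have h3 : (repMat ρ g).trace = (repMat ρ g⁻¹).trace := by
    conv_lhs => rw [h2]
    rw [Matrix.trace_mul_comm, Matrix.mul_assoc, Matrix.mul_nonsing_inv _ hu, Matrix.mul_one,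
      Matrix.trace_transpose]
  rw [trace_repMat, trace_repMat, Cfsg.Agent.Lib.Helper4.char_inv] at h3
  exact Complex.conj_eq_iff_im.1 h3.symm

/-- Main statement: for a real-valued irreducible character every invariant form `M`
satisfies `Mᵀ = ν • M`, and `ν = ±1`. -/
theorem transpose_eq_fsInd_smul (ρ : Representation ℂ G (Fin n → ℂ)) [hirr : ρ.IsIrreducible]
    (hreal : ∀ g : G, (ρ.character g).im = 0) :
    (fsInd ρ.character = 1 ∨ fsInd ρ.character = -1) ∧
    ∀ M : Matrix (Fin n) (Fin n) ℂ, (∀ g : G, (repMat ρ g)ᵀ * M * repMat ρ g = M) →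
      Mᵀ = fsInd ρ.character • M := by
  obtain ⟨M₀, hM₀, hinv₀⟩ := exists_invariant_of_real ρ hreal
  obtain ⟨ε, hε⟩ := invariant_eq_smul ρ M₀ᵀ M₀ (invariant_transpose (repMat ρ) M₀ hinv₀) hinv₀ hM₀
  have hkey : ∀ M : Matrix (Fin n) (Fin n) ℂ, (∀ g : G, (repMat ρ g)ᵀ * M * repMat ρ g = M) →
      Mᵀ = ε • M := by
    intro M hM
    obtain ⟨c, hc⟩ := invariant_eq_smul ρ M M₀ hM hinv₀ hM₀
    rw [hc, Matrix.transpose_smul, hε, smul_comm]
  have hν : fsInd ρ.character = ε := by
    rw [← tau2_eq_fsInd]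
    have h1 : ∀ i j, fsAvg (repMat ρ) (Matrix.single i j (1 : ℂ)) j i
        = ε * fsAvg (repMat ρ) (Matrix.single i j (1 : ℂ)) i j := by
      intro i j
      have h2 := hkey _ (fun g => fsAvg_invariant (repMat ρ) (Matrix.single i j (1 : ℂ)) g)
      have h3 := congrFun (congrFun h2 i) j
      simpa using h3
    simp only [h1, ← Finset.mul_sum]
    rw [tau1_eq_one ρ hreal, mul_one]
  refine ⟨?_, ?_⟩
  · rw [hν]
    have h1 : M₀ = (ε * ε) • M₀ := by
      conv_lhs => rw [← Matrix.transpose_transpose M₀, hε, Matrix.transpose_smul, hε, smul_smul]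
    have h2 : ((ε * ε) - 1) • M₀ = 0 := by
      rw [sub_smul, one_smul, ← h1, sub_self]
    rcases smul_eq_zero.1 h2 with h | h
    · have h3 : (ε - 1) * (ε + 1) = 0 := by linear_combination h
      rcases mul_eq_zero.1 h3 with h4 | h4
      · left; linear_combination h4
      · right; linear_combination h4
    · exact absurd h hM₀
  · intro M hM
    rw [hν]
    exact hkey M hM

/-- Trichotomy for the Frobenius–Schur indicator of an irreducible representation. -/
theorem fsInd_trichotomy (ρ : Representation ℂ G (Fin n → ℂ)) [hirr : ρ.IsIrreducible] :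
    ((∀ g : G, (ρ.character g).im = 0) → (fsInd ρ.character = 1 ∨ fsInd ρ.character = -1)) ∧
    ((¬ ∀ g : G, (ρ.character g).im = 0) → fsInd ρ.character = 0) := by
  refine ⟨fun hreal => (transpose_eq_fsInd_smul ρ hreal).1, fun hnr => ?_⟩
  apply fsInd_eq_zero_of_no_invariant
  intro M hM
  by_contra hM0
  exact hnr (fun g => real_of_invariant ρ M hM0 hM g)

end FS

end Cfsg.Agent.Lib.Helper79
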