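import Mathlib
import Cfsg.Prelude.Def_Characters
import Cfsg.Prelude.Def_Blocks
import Cfsg.Agent.Lib.Helper4.CharDual
import Cfsg.Agent.Lib.Helper79.FSMain

set_option autoImplicit false

namespace Cfsg.Agent.Lib.Helper79

open scoped ComplexConjugate
open Cfsg.Agent.Lib.Helper4

section FSCount

variable {G : Type*} [Group G] [Fintype G]

/-- The principal character is irreducible. -/
theorem isIrr_const_one : Cfsg.IsIrrCharacter G (fun _ => (1 : ℂ)) := by
  classical
  have := irr_finite (G := G)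
  letI : Fintype (Cfsg.IrrCharacter G) := Fintype.ofFinite _
  apply isIrrCharacter_of_norm_one
  · refine ⟨1, Representation.trivial ℂ G (Fin 1 → ℂ), ?_⟩
    funext g
    simp [Representation.character, Representation.trivial]
  · simp only [Cfsg.classInner, map_one, mul_one, Finset.sum_const, Finset.card_univ]
    rw [← Nat.card_eq_fintype_card, nsmul_eq_mul, mul_one, inv_mul_cancel₀ card_ne_zero_complex]

/-- The principal character as an element of `IrrCharacter G`. -/
noncomputable def oneIrr (G : Type*) [Group G] [Fintype G] : Cfsg.IrrCharacter G :=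
  ⟨fun _ => 1, isIrr_const_one⟩

theorem oneIrr_apply (g : G) : (oneIrr G : G → ℂ) g = 1 := rfl

/-- The degree of an irreducible character, as a complex number. -/
theorem irr_one_eq_charDegree (χ : Cfsg.IrrCharacter G) :
    (χ : G → ℂ) 1 = (Cfsg.charDegree (χ : G → ℂ) : ℂ) := by
  obtain ⟨n, -, hn⟩ := irr_one_nat χ
  rw [Cfsg.charDegree, hn]
  simp

theorem charDegree_pos (χ : Cfsg.IrrCharacter G) : 0 < Cfsg.charDegree (χ : G → ℂ) := by
  obtain ⟨n, hpos, hn⟩ := irr_one_nat χ
  have : Cfsg.charDegree (χ : G → ℂ) = n := by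
    rw [Cfsg.charDegree, hn]; simp
  rw [this]; exact hpos

theorem charDegree_oneIrr : Cfsg.charDegree (oneIrr G : G → ℂ) = 1 := by
  rw [Cfsg.charDegree, oneIrr_apply]
  simp

/-- Trichotomy of the Frobenius–Schur indicator for irreducible characters. -/
theorem fsInd_irr (χ : Cfsg.IrrCharacter G) :
    ((∀ g : G, ((χ : G → ℂ) g).im = 0) →
      (fsInd (χ : G → ℂ) = 1 ∨ fsInd (χ : G → ℂ) = -1)) ∧
    ((¬ ∀ g : G, ((χ : G → ℂ) g).im = 0) → fsInd (χ : G → ℂ) = 0) := by
  obtain ⟨n, ρ, hρ, hχ⟩ := χ.2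
  haveI := hρ
  have h := fsInd_trichotomy ρ
  rw [hχ] at h
  exact h

open scoped Classical in
/-- The Frobenius–Schur indicator as an integer. -/
noncomputable def fsSign (χ : Cfsg.IrrCharacter G) : ℤ :=
  if (∀ g : G, ((χ : G → ℂ) g).im = 0) then (if fsInd (χ : G → ℂ) = 1 then 1 else -1) else 0

theorem fsSign_spec (χ : Cfsg.IrrCharacter G) : fsInd (χ : G → ℂ) = (fsSign χ : ℂ) := by
  classical
  unfold fsSign
  by_cases hr : ∀ g : G, ((χ : G → ℂ) g).im = 0
  · rw [if_pos hr]
    rcases (fsInd_irr χ).1 hr with h | h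
    · rw [if_pos h, h]; simp
    · have hne : fsInd (χ : G → ℂ) ≠ 1 := by
        rw [h]; norm_num
      rw [if_neg hne, h]; simp
  · rw [if_neg hr, (fsInd_irr χ).2 hr]; simp

theorem fsSign_cases (χ : Cfsg.IrrCharacter G) : fsSign χ = 0 ∨ fsSign χ = 1 ∨ fsSign χ = -1 := by
  classical
  unfold fsSign
  split_ifs <;> simp

theorem fsSign_ne_zero_iff (χ : Cfsg.IrrCharacter G) :
    fsSign χ ≠ 0 ↔ ∀ g : G, ((χ : G → ℂ) g).im = 0 := by
  classical
  unfold fsSign
  constructor
  · intro h
    by_contra hr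
    rw [if_neg hr] at h
    exact h rfl
  · intro hr
    rw [if_pos hr]
    split_ifs <;> simp

theorem fsSign_le_one (χ : Cfsg.IrrCharacter G) : fsSign χ ≤ 1 := by
  rcases fsSign_cases χ with h | h | h <;> rw [h] <;> norm_num

theorem fsSign_oneIrr : fsSign (oneIrr G) = 1 := by
  have h : fsInd (oneIrr G : G → ℂ) = 1 := by
    simp only [fsInd, oneIrr_apply, Finset.sum_const, Finset.card_univ]
    rw [← Nat.card_eq_fintype_card, nsmul_eq_mul, mul_one, inv_mul_cancel₀ card_ne_zero_complex]
  have h2 := fsSign_spec (oneIrr G)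
  rw [h] at h2
  exact_mod_cast h2.symm

/-- The number of square roots of `g` is `∑ ν(χ) χ(g)`. -/
theorem card_sqrt_eq [Fintype (Cfsg.IrrCharacter G)] [DecidableEq G] (g : G) :
    ((Finset.univ.filter (fun h : G => h * h = g)).card : ℂ)
      = ∑ χ : Cfsg.IrrCharacter G, fsInd (χ : G → ℂ) * (χ : G → ℂ) g := by
  set θ : G → ℂ := fun g => ((Finset.univ.filter (fun h : G => h * h = g)).card : ℂ) with hθ
  have hcf : Cfsg.IsClassFunction G θ := by
    intro g k
    simp only [hθ]
    congr 1
    apply Finset.card_bij' (fun h _ => k⁻¹ * h * k) (fun h _ => k * h * k⁻¹)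
    · intro h hh
      rw [Finset.mem_filter] at hh ⊢
      refine ⟨Finset.mem_univ _, ?_⟩
      have : k⁻¹ * h * k * (k⁻¹ * h * k) = k⁻¹ * (h * h) * k := by group
      rw [this, hh.2]; group
    · intro h hh
      rw [Finset.mem_filter] at hh ⊢
      refine ⟨Finset.mem_univ _, ?_⟩
      have : k * h * k⁻¹ * (k * h * k⁻¹) = k * (h * h) * k⁻¹ := by group
      rw [this, hh.2]
    · intro h _; group
    · intro h _; group
  have hinner : ∀ χ : Cfsg.IrrCharacter G, Cfsg.classInner θ (χ : G → ℂ) = fsInd (χ : G → ℂ) := by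
    intro χ
    have h1 : ∀ g : G, θ g * conj ((χ : G → ℂ) g)
        = ∑ h ∈ Finset.univ.filter (fun h : G => h * h = g), conj ((χ : G → ℂ) (h * h)) := by
      intro g
      rw [Finset.sum_congr rfl (g := fun _ => conj ((χ : G → ℂ) g))
        (fun h hh => by rw [(Finset.mem_filter.1 hh).2]), Finset.sum_const, nsmul_eq_mul]
    have h2 : ∑ g : G, θ g * conj ((χ : G → ℂ) g) = ∑ h : G, conj ((χ : G → ℂ) (h * h)) := by
      simp only [h1]
      exact Finset.sum_fiberwise Finset.univ (fun h : G => h * h)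
        (fun h => conj ((χ : G → ℂ) (h * h)))
    have h3 : conj (fsInd (χ : G → ℂ)) = fsInd (χ : G → ℂ) := by
      rw [fsSign_spec]; simp
    rw [Cfsg.classInner, h2, ← h3, fsInd]
    simp only [map_mul, map_inv₀, map_natCast, map_sum]
  have hexp := congrFun (classFunction_expansion θ hcf) g
  simp only [Finset.sum_apply, Pi.smul_apply, smul_eq_mul, hinner] at hexp
  exact hexp

/-- Frobenius–Schur count of involutions. -/
theorem one_add_card_involutions [Fintype (Cfsg.IrrCharacter G)] :
    (1 + (Nat.card {x : G // orderOf x = 2} : ℤ))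
      = ∑ χ : Cfsg.IrrCharacter G, fsSign χ * (Cfsg.charDegree (χ : G → ℂ) : ℤ) := by
  classical
  have h := card_sqrt_eq (G := G) 1
  have h1 : Finset.univ.filter (fun h : G => h * h = 1)
      = insert 1 (Finset.univ.filter (fun h : G => orderOf h = 2)) := by
    ext h
    simp only [Finset.mem_filter, Finset.mem_univ, true_and, Finset.mem_insert]
    haveI : Fact (Nat.Prime 2) := ⟨Nat.prime_two⟩
    rw [orderOf_eq_prime_iff, sq]
    constructor
    · intro hh
      by_cases h1 : h = 1
      · left; exact h1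
      · right; exact ⟨hh, h1⟩
    · rintro (rfl | ⟨hh, -⟩)
      · simp
      · exact hh
  have h2 : (1 : G) ∉ Finset.univ.filter (fun h : G => orderOf h = 2) := by
    simp
  rw [h1, Finset.card_insert_of_notMem h2] at h
  have h3 : Nat.card {x : G // orderOf x = 2}
      = (Finset.univ.filter (fun h : G => orderOf h = 2)).card := by
    rw [Nat.card_eq_fintype_card, Fintype.card_subtype]
  rw [h3]
  have h4 : ((1 + ((Finset.univ.filter (fun h : G => orderOf h = 2)).card : ℤ) : ℤ) : ℂ)
      = ((∑ χ : Cfsg.IrrCharacter G, fsSign χ * (Cfsg.charDegree (χ : G → ℂ) : ℤ) : ℤ) : ℂ) := by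
    push_cast
    rw [add_comm]
    have h5 : ∀ χ : Cfsg.IrrCharacter G, fsInd (χ : G → ℂ) * (χ : G → ℂ) 1
        = (fsSign χ : ℂ) * (Cfsg.charDegree (χ : G → ℂ) : ℂ) := by
      intro χ
      rw [fsSign_spec, irr_one_eq_charDegree]
    simp only [h5] at h
    rw [← h]
    push_cast
    ring
  exact_mod_cast h4

end FSCount

end Cfsg.Agent.Lib.Helper79
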