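import Mathlib
import Cfsg.Agent.Lib.Helper81.PSolv2
import Cfsg.Agent.Lib.Helper79.Prin2

/-!
# Groups of order `4 g₀` (`g₀` odd) without normal 2-complement: local structure (helper79)
-/

set_option autoImplicit false

namespace Cfsg.Agent.Lib.Helper79

open Subgroup

section General

variable {G : Type*} [Group G]

/-- A `p`-element normalizing a Sylow `p`-subgroup lies in it. -/
theorem mem_sylow_of_mem_normalizer {p : ℕ} [Fact p.Prime] (P : Sylow p G) {s : G}
    (hs : s ∈ normalizer ((P : Subgroup G) : Set G)) (hord : ∃ e : ℕ, orderOf s = p ^ e) :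
    s ∈ (P : Subgroup G) := by
  obtain ⟨e, he⟩ := hord
  have hpg : IsPGroup p (zpowers s) := IsPGroup.of_card (n := e) (by rw [Nat.card_zpowers, he])
  have hle : zpowers s ≤ normalizer ((P : Subgroup G) : Set G) := by
    rw [zpowers_le]; exact hs
  have h1 : P ∈ MulAction.fixedPoints (zpowers s) (Sylow p G) :=
    (Subgroup.sylow_mem_fixedPoints_iff (zpowers s)).mpr hle
  have h2 := hpg.sylow_mem_fixedPoints_iff.mp h1
  exact h2 (mem_zpowers s)

theorem comm_of_card_four {Q : Type*} [Group Q] (h : Nat.card Q = 4) (a b : Q) :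
    a * b = b * a := by
  haveI : Fact (Nat.Prime 2) := ⟨Nat.prime_two⟩
  haveI := IsPGroup.isMulCommutative_of_card_eq_prime_sq (p := 2) (G := Q) (by rw [h]; norm_num)
  exact mul_comm' a b

theorem mem_zpowers_of_orderOf_two {Q : Type*} [Group Q] {j x : Q} (hj : orderOf j = 2)
    (hx : x ∈ zpowers j) : x = 1 ∨ x = j := by
  obtain ⟨k, rfl⟩ := hx
  show j ^ k = 1 ∨ j ^ k = j
  have h1 := zpow_mod_orderOf j k
  rw [hj] at h1
  rcases Int.emod_two_eq_zero_or_one k with h | h
  · left
    rw [← h1]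
    have : k % ((2 : ℕ) : ℤ) = 0 := by exact_mod_cast h
    rw [this, zpow_zero]
  · right
    rw [← h1]
    have : k % ((2 : ℕ) : ℤ) = 1 := by exact_mod_cast h
    rw [this, zpow_one]

/-- In a group of order four with an involution `j`, two elements outside `{1, j}` differ by an
element of `{1, j}`. -/
theorem eq_or_eq_mul_of_card_four {Q : Type*} [Group Q] (h : Nat.card Q = 4) {j : Q}
    (hj : orderOf j = 2) {a b : Q} (ha : a ≠ 1) (haj : a ≠ j) (hb : b ≠ 1) (hbj : b ≠ j) :
    b = a ∨ b = j * a := by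
  have hcard : Nat.card (zpowers j) = 2 := by rw [Nat.card_zpowers, hj]
  have hidx : (zpowers j).index = 2 := by
    have := Subgroup.card_mul_index (zpowers j)
    rw [hcard, h] at this
    omega
  have haZ : a ∉ zpowers j := fun hh => by
    rcases mem_zpowers_of_orderOf_two hj hh with h1 | h1
    · exact ha h1
    · exact haj h1
  have hbZ : b ∉ zpowers j := fun hh => by
    rcases mem_zpowers_of_orderOf_two hj hh with h1 | h1
    · exact hb h1
    · exact hbj h1
  have hmem : b * a⁻¹ ∈ zpowers j := by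
    rw [Subgroup.mul_mem_iff_of_index_two hidx, inv_mem_iff]
    exact ⟨fun hh => absurd hh hbZ, fun hh => absurd hh haZ⟩
  rcases mem_zpowers_of_orderOf_two hj hmem with h1 | h1
  · left
    exact mul_inv_eq_one.mp h1
  · right
    exact mul_inv_eq_iff_eq_mul.mp h1

theorem sq_eq_one_of_orderOf_two {x : G} (h : orderOf x = 2) : x * x = 1 := by
  have := pow_orderOf_eq_one x
  rwa [h, pow_two] at this

theorem ne_one_of_orderOf_two {x : G} (h : orderOf x = 2) : x ≠ 1 := by
  intro h1
  rw [h1, orderOf_one] at h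
  omega

theorem inv_eq_self_of_orderOf_two {x : G} (h : orderOf x = 2) : x⁻¹ = x :=
  inv_eq_of_mul_eq_one_left (sq_eq_one_of_orderOf_two h)

theorem orderOf_eq_two_of_sq {x : G} (h : x * x = 1) (h1 : x ≠ 1) : orderOf x = 2 := by
  haveI : Fact (Nat.Prime 2) := ⟨Nat.prime_two⟩
  exact orderOf_eq_prime (by rw [pow_two]; exact h) h1

theorem orderOf_conj_two (t : G) {x : G} (h : orderOf x = 2) : orderOf (t * x * t⁻¹) = 2 := by
  have := MulEquiv.orderOf_eq (MulAut.conj t) x
  rw [MulAut.conj_apply] at this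
  rw [this, h]

end General

section Sylow4

variable {G : Type*} [Group G] [Finite G]

/-- Elements of a Sylow 2-subgroup of order four commute. -/
theorem sylow_four_comm (P : Sylow 2 G) (hP : Nat.card P = 4) {x y : G}
    (hx : x ∈ (P : Subgroup G)) (hy : y ∈ (P : Subgroup G)) : x * y = y * x := by
  have := comm_of_card_four (Q := (P : Subgroup G)) hP ⟨x, hx⟩ ⟨y, hy⟩
  exact congrArg Subtype.val this

/-- Enumeration of a Sylow 2-subgroup of order four. -/
theorem sylow_four_enum (P : Sylow 2 G) (hP : Nat.card P = 4) {j a b : G}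
    (hj : j ∈ (P : Subgroup G)) (hj2 : orderOf j = 2)
    (ha : a ∈ (P : Subgroup G)) (ha1 : a ≠ 1) (haj : a ≠ j)
    (hb : b ∈ (P : Subgroup G)) (hb1 : b ≠ 1) (hbj : b ≠ j) : b = a ∨ b = j * a := by
  have hj2' : orderOf (⟨j, hj⟩ : (P : Subgroup G)) = 2 := by
    rw [← Subgroup.orderOf_coe]; exact hj2
  have := eq_or_eq_mul_of_card_four (Q := (P : Subgroup G)) hP hj2'
    (a := ⟨a, ha⟩) (b := ⟨b, hb⟩)
    (fun h => ha1 (congrArg Subtype.val h)) (fun h => haj (congrArg Subtype.val h))
    (fun h => hb1 (congrArg Subtype.val h)) (fun h => hbj (congrArg Subtype.val h))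
  rcases this with h | h
  · left; exact congrArg Subtype.val h
  · right; exact congrArg Subtype.val h

/-- An element normalizing a Sylow 2-subgroup of order four and centralizing one of its
involutions centralizes it. -/
theorem commute_of_normalizer_of_commute_involution (P : Sylow 2 G) (hP : Nat.card P = 4)
    {J : G} (hJ : J ∈ (P : Subgroup G)) (hJ2 : orderOf J = 2) {t : G}
    (ht : t ∈ normalizer ((P : Subgroup G) : Set G)) (htJ : Commute t J) :
    ∀ x ∈ (P : Subgroup G), Commute t x := by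
  haveI : Fact (Nat.Prime 2) := ⟨Nat.prime_two⟩
  intro x hx
  by_contra hne
  have hy : t * x * t⁻¹ ∈ (P : Subgroup G) := (mem_normalizer_iff.mp ht x).mp hx
  have hx1 : x ≠ 1 := fun h => hne (by rw [h]; exact Commute.one_right t)
  have hxJ : x ≠ J := fun h => hne (by rw [h]; exact htJ)
  have hy1 : t * x * t⁻¹ ≠ 1 := fun h => hx1 (by
    have : x = t⁻¹ * (t * x * t⁻¹) * t := by group
    rw [this, h]; group)
  have hyJ : t * x * t⁻¹ ≠ J := fun h => hxJ (by
    have h2 : x = t⁻¹ * (t * x * t⁻¹) * t := by group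
    rw [h2, h]
    have h3 : t⁻¹ * J * t = t⁻¹ * (J * t) := by group
    rw [h3, ← htJ.eq]; group)
  have hcase := sylow_four_enum P hP hJ hJ2 hx hx1 hxJ hy hy1 hyJ
  have hJx : t * x * t⁻¹ = J * x := by
    rcases hcase with h | h
    · exfalso
      apply hne
      show t * x = x * t
      calc t * x = t * x * t⁻¹ * t := by group
        _ = x * t := by rw [h]
    · exact h
  have hpow : ∀ n : ℕ, t ^ n * x * (t ^ n)⁻¹ = J ^ n * x := by
    intro n
    induction n with
    | zero => simp
    | succ n ih =>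
      have h1 : t ^ (n + 1) * x * (t ^ (n + 1))⁻¹ = t * (t ^ n * x * (t ^ n)⁻¹) * t⁻¹ := by
        rw [pow_succ']; group
      rw [h1, ih]
      have h2 : t * (J ^ n * x) * t⁻¹ = (t * J ^ n * t⁻¹) * (t * x * t⁻¹) := by group
      have h3 : t * J ^ n * t⁻¹ = J ^ n := by
        rw [(htJ.pow_right n).eq]; group
      rw [h2, h3, hJx, pow_succ, mul_assoc]
  have ho : orderOf t ≠ 0 := (orderOf_pos t).ne'
  obtain ⟨e, m, hm, hom⟩ := Nat.exists_eq_two_pow_mul_odd ho
  have hm0 : m ≠ 0 := fun h => by rw [h] at hm; simp at hm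
  have hs : orderOf (t ^ m) = 2 ^ e := by
    rw [orderOf_pow_of_dvd hm0 (by rw [hom]; exact dvd_mul_left _ _), hom,
      Nat.mul_div_cancel _ (Nat.pos_of_ne_zero hm0)]
  have hsN : t ^ m ∈ normalizer ((P : Subgroup G) : Set G) := pow_mem ht m
  have hsP : t ^ m ∈ (P : Subgroup G) := mem_sylow_of_mem_normalizer P hsN ⟨e, hs⟩
  have h4 := hpow m
  have h5 : t ^ m * x * (t ^ m)⁻¹ = x := by
    rw [sylow_four_comm P hP hsP hx]; group
  have h6 : J ^ m = J := by
    obtain ⟨r, hr⟩ := hm
    rw [hr, pow_succ, pow_mul, pow_two, sq_eq_one_of_orderOf_two hJ2, one_pow, one_mul]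
  rw [h5, h6] at h4
  have h7 : J = 1 := by
    have : J * x = 1 * x := by rw [one_mul]; exact h4.symm
    exact mul_right_cancel this
  exact ne_one_of_orderOf_two hJ2 h7

end Sylow4

end Cfsg.Agent.Lib.Helper79
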