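import Mathlib
import Cfsg.Agent.Lib.Helper79.Klein1

/-!
# Groups of order `4 g₀` (`g₀` odd) without normal 2-complement: centralizer of an involution
(helper79)
-/

set_option autoImplicit false

namespace Cfsg.Agent.Lib.Helper79

open Subgroup

section

variable {G : Type*} [Group G] [Finite G]

theorem card_sylow_two_of_card (g₀ : ℕ) (hg₀ : Odd g₀) (hG : Nat.card G = 4 * g₀)
    (P : Sylow 2 G) : Nat.card P = 4 := by
  haveI : Fact (Nat.Prime 2) := ⟨Nat.prime_two⟩
  have hg0 : g₀ ≠ 0 := fun h => by rw [h] at hg₀; simp at hg₀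
  have hnd : ¬ 2 ∣ g₀ := fun h => (Nat.not_even_iff_odd.mpr hg₀) (even_iff_two_dvd.mpr h)
  have h4 : (4 : ℕ) = 2 ^ 2 := by norm_num
  rw [Sylow.card_eq_multiplicity, hG, Nat.factorization_mul (by norm_num) hg0, Finsupp.add_apply,
    h4, Nat.Prime.factorization_pow Nat.prime_two, Finsupp.single_eq_same,
    Nat.factorization_eq_zero_of_not_dvd hnd]

theorem sylow_le_centralizer (P : Sylow 2 G) (hP : Nat.card P = 4) {J : G}
    (hJ : J ∈ (P : Subgroup G)) : (P : Subgroup G) ≤ centralizer ({J} : Set G) := by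
  intro x hx
  exact mem_centralizer_singleton_of_commute (sylow_four_comm P hP hJ hx)

/-- The normalizer condition of Burnside's transfer theorem inside the centralizer of an
involution. -/
theorem normalizer_le_centralizer_in_centralizer (P : Sylow 2 G) (hP : Nat.card P = 4) {J : G}
    (hJ : J ∈ (P : Subgroup G)) (hJ2 : orderOf J = 2) :
    normalizer (((P.subtype (sylow_le_centralizer P hP hJ) :
        Sylow 2 (centralizer ({J} : Set G))) : Subgroup (centralizer ({J} : Set G))) :
        Set (centralizer ({J} : Set G))) ≤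
      centralizer (((P.subtype (sylow_le_centralizer P hP hJ) :
        Sylow 2 (centralizer ({J} : Set G))) : Subgroup (centralizer ({J} : Set G))) :
        Set (centralizer ({J} : Set G))) := by
  have hPC := sylow_le_centralizer P hP hJ
  intro t ht
  rw [Sylow.coe_subtype] at ht ⊢
  have htG : (t : G) ∈ normalizer ((P : Subgroup G) : Set G) := by
    rw [mem_normalizer_iff]
    intro h
    constructor
    · intro hh
      have hhC : h ∈ centralizer ({J} : Set G) := hPC hh
      have h1 := (mem_normalizer_iff.mp ht ⟨h, hhC⟩).mp (by rw [mem_subgroupOf]; exact hh)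
      rw [mem_subgroupOf] at h1
      exact h1
    · intro hh
      have hhC : h ∈ centralizer ({J} : Set G) := by
        have h1 : (t : G) * h * (t : G)⁻¹ ∈ centralizer ({J} : Set G) := hPC hh
        have h2 : h = (t : G)⁻¹ * ((t : G) * h * (t : G)⁻¹) * (t : G) := by group
        rw [h2]
        exact mul_mem (mul_mem (inv_mem t.2) h1) t.2
      have h1 := (mem_normalizer_iff.mp ht ⟨h, hhC⟩).mpr (by rw [mem_subgroupOf]; exact hh)
      rw [mem_subgroupOf] at h1
      exact h1
  have htJ : Commute (t : G) J := (commute_of_mem_centralizer_singleton t.2).symm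
  have hall := commute_of_normalizer_of_commute_involution P hP hJ hJ2 htG htJ
  rw [mem_centralizer_iff]
  intro x hx
  rw [SetLike.mem_coe, mem_subgroupOf] at hx
  apply Subtype.ext
  push_cast
  exact (hall x hx).eq.symm

/-- The centralizer of an involution has a normal 2-complement: its `2'`-core has index four. -/
theorem index_pPrimeCore_centralizer (P : Sylow 2 G) (hP : Nat.card P = 4) {J : G}
    (hJ : J ∈ (P : Subgroup G)) (hJ2 : orderOf J = 2) :
    (Cfsg.pPrimeCore 2 (centralizer ({J} : Set G))).index = 4 := by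
  haveI : Fact (Nat.Prime 2) := ⟨Nat.prime_two⟩
  have hPC := sylow_le_centralizer P hP hJ
  have hN := normalizer_le_centralizer_in_centralizer P hP hJ hJ2
  have hc := MonoidHom.ker_transferSylow_isComplement' (P.subtype hPC) hN
  have hodd := MonoidHom.not_dvd_card_ker_transferSylow (P.subtype hPC) hN
  have hle : (MonoidHom.transferSylow (P.subtype hPC) hN).ker ≤
      Cfsg.pPrimeCore 2 (centralizer ({J} : Set G)) :=
    Cfsg.Agent.Lib.Helper81.le_pPrimeCore 2 _ (MonoidHom.normal_ker _)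
      ((Nat.Prime.coprime_iff_not_dvd Nat.prime_two).2 hodd).symm
  have h1 := Subgroup.index_dvd_of_le hle
  have hcardP : Nat.card ((P.subtype hPC : Sylow 2 (centralizer ({J} : Set G))) :
      Subgroup (centralizer ({J} : Set G))) = 4 := by
    rw [Sylow.coe_subtype, Nat.card_congr (Subgroup.subgroupOfEquivOfLe hPC).toEquiv]
    exact hP
  rw [hc.symm.index_eq_card, hcardP] at h1
  have h2 := Subgroup.card_mul_index (Cfsg.pPrimeCore 2 (centralizer ({J} : Set G)))
  have h3 : 4 ∣ Nat.card (centralizer ({J} : Set G)) := by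
    rw [← hP]; exact Subgroup.card_dvd_of_le hPC
  have hco : Nat.Coprime 4 (Nat.card (Cfsg.pPrimeCore 2 (centralizer ({J} : Set G)))) := by
    have := Cfsg.Agent.Lib.Helper81.pPrimeCore_coprime (G := centralizer ({J} : Set G)) 2
    have h4 : (4 : ℕ) = 2 ^ 2 := by norm_num
    rw [h4]
    exact Nat.Coprime.pow_left 2 this.symm
  rw [← h2] at h3
  exact Nat.dvd_antisymm h1 (hco.dvd_of_dvd_mul_left h3)

/-- Without a normal 2-complement, the three involutions of a Sylow 2-subgroup of order four are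
conjugate. -/
theorem exists_fusion (g₀ : ℕ) (hg₀ : Odd g₀) (hG : Nat.card G = 4 * g₀)
    (hnc : ¬ ∃ N : Subgroup G, N.Normal ∧ Nat.card N = g₀) (P : Sylow 2 G) {J : G}
    (hJ : J ∈ (P : Subgroup G)) (hJ2 : orderOf J = 2) :
    ∃ J₂ ∈ (P : Subgroup G), orderOf J₂ = 2 ∧ J₂ ≠ J ∧ IsConj J J₂ ∧ IsConj J (J * J₂) := by
  haveI : Fact (Nat.Prime 2) := ⟨Nat.prime_two⟩
  have hP := card_sylow_two_of_card g₀ hg₀ hG P
  have hnN : ¬ normalizer ((P : Subgroup G) : Set G) ≤ centralizer ((P : Subgroup G) : Set G) := by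
    intro hN
    have hc := MonoidHom.ker_transferSylow_isComplement' P hN
    have h1 := hc.card_mul_card
    rw [hP, hG] at h1
    exact hnc ⟨(MonoidHom.transferSylow P hN).ker, MonoidHom.normal_ker _, by omega⟩
  rw [SetLike.not_le_iff_exists] at hnN
  obtain ⟨t, ht, htc⟩ := hnN
  rw [mem_centralizer_iff] at htc
  push Not at htc
  obtain ⟨x, hx, hxt⟩ := htc
  have hkey : ∀ J' ∈ (P : Subgroup G), orderOf J' = 2 → ¬ Commute t J' := by
    intro J' hJ' hJ'2 hcomm
    exact hxt (commute_of_normalizer_of_commute_involution P hP hJ' hJ'2 ht hcomm x hx).eq.symm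
  have hJ₂P : t * J * t⁻¹ ∈ (P : Subgroup G) := (mem_normalizer_iff.mp ht J).mp hJ
  have hJ₂2 : orderOf (t * J * t⁻¹) = 2 := orderOf_conj_two t hJ2
  have hJ₂ne : t * J * t⁻¹ ≠ J := by
    intro h
    apply hkey J hJ hJ2
    show t * J = J * t
    calc t * J = t * J * t⁻¹ * t := by group
      _ = J * t := by rw [h]
  refine ⟨t * J * t⁻¹, hJ₂P, hJ₂2, hJ₂ne, isConj_iff.mpr ⟨t, rfl⟩, ?_⟩
  set J₂ := t * J * t⁻¹ with hJ₂
  have hyP : t * J₂ * t⁻¹ ∈ (P : Subgroup G) := (mem_normalizer_iff.mp ht J₂).mp hJ₂P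
  have hy1 : t * J₂ * t⁻¹ ≠ 1 := ne_one_of_orderOf_two (orderOf_conj_two t hJ₂2)
  have hyJ₂ : t * J₂ * t⁻¹ ≠ J₂ := by
    intro h
    apply hkey J₂ hJ₂P hJ₂2
    show t * J₂ = J₂ * t
    calc t * J₂ = t * J₂ * t⁻¹ * t := by group
      _ = J₂ * t := by rw [h]
  have hcomm : J * J₂ = J₂ * J := sylow_four_comm P hP hJ hJ₂P
  have hcase := sylow_four_enum P hP hJ₂P hJ₂2 hJ (ne_one_of_orderOf_two hJ2) (Ne.symm hJ₂ne)
    hyP hy1 hyJ₂
  have hy : t * J₂ * t⁻¹ = J * J₂ := by
    rcases hcase with h | h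
    · exfalso
      have hJJ₂P : J * J₂ ∈ (P : Subgroup G) := mul_mem hJ hJ₂P
      have hsq : (J * J₂) * (J * J₂) = 1 := by
        calc (J * J₂) * (J * J₂) = J * (J₂ * J) * J₂ := by group
          _ = J * (J * J₂) * J₂ := by rw [hcomm]
          _ = (J * J) * (J₂ * J₂) := by group
          _ = 1 := by rw [sq_eq_one_of_orderOf_two hJ2, sq_eq_one_of_orderOf_two hJ₂2, one_mul]
      have hne1 : J * J₂ ≠ 1 := by
        intro h1
        apply hJ₂ne
        have : J₂ = J⁻¹ := (eq_inv_of_mul_eq_one_right h1)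
        rw [this, inv_eq_self_of_orderOf_two hJ2]
      apply hkey (J * J₂) hJJ₂P (orderOf_eq_two_of_sq hsq hne1)
      show t * (J * J₂) = (J * J₂) * t
      calc t * (J * J₂) = (t * J * t⁻¹) * (t * J₂ * t⁻¹) * t := by group
        _ = J₂ * J * t := by rw [h]
        _ = (J * J₂) * t := by rw [hcomm]
    · rw [h, hcomm]
  refine isConj_iff.mpr ⟨t * t, ?_⟩
  calc t * t * J * (t * t)⁻¹ = t * (t * J * t⁻¹) * t⁻¹ := by group
    _ = J * J₂ := hy

end

end Cfsg.Agent.Lib.Helper79
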