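import Mathlib
import Cfsg.Agent.Lib.Helper79.Klein1
import Cfsg.Agent.Lib.Helper4.CharExp

/-!
# Pairs of involutions in a group with a central involution and a normal 2-complement of index 4
(helper79)
-/

set_option autoImplicit false

namespace Cfsg.Agent.Lib.Helper79

open Subgroup

section Pairs

variable {X : Type*} [Group X] [Finite X]

/-- Involutions in a coset of a subgroup of odd order containing their quotient are conjugate. -/
theorem isConj_of_coset_odd (K : Subgroup X) (hK : Odd (Nat.card K)) {w a : X} (hw : w * w = 1)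
    (ha : a * a = 1) (hwa : w⁻¹ * a ∈ K) : IsConj w a := by
  set k := w⁻¹ * a with hk
  have hwi : w⁻¹ = w := inv_eq_of_mul_eq_one_left hw
  have ha' : a = w * k := by rw [hk]; group
  have hinv : w * k * w⁻¹ = k⁻¹ := by
    have h1 : w * k * (w * k) = 1 := by rw [← ha']; exact ha
    rw [hwi]
    exact eq_inv_of_mul_eq_one_left (by rw [← h1]; group)
  have hodd : Odd (orderOf k) := Odd.of_dvd_nat hK (Subgroup.orderOf_dvd_natCard K hwa)
  obtain ⟨r, hr⟩ := hodd
  have hss : k ^ (r + 1) * k ^ (r + 1) = k := by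
    rw [← pow_add]
    have : r + 1 + (r + 1) = orderOf k + 1 := by omega
    rw [this, pow_succ, pow_orderOf_eq_one, one_mul]
  have hsinv : w * k ^ (r + 1) * w⁻¹ = (k ^ (r + 1))⁻¹ := by
    rw [← conj_pow, hinv, inv_pow]
  refine isConj_iff.mpr ⟨(k ^ (r + 1))⁻¹, ?_⟩
  rw [inv_inv, ← hsinv, ha']
  conv_rhs => rw [← hss]
  group

/-- Enumeration of a subgroup of order four. -/
theorem subgroup_four_enum (Q : Subgroup X) (hQ : Nat.card Q = 4) {j a b : X}
    (hj : j ∈ Q) (hj2 : orderOf j = 2)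
    (ha : a ∈ Q) (ha1 : a ≠ 1) (haj : a ≠ j)
    (hb : b ∈ Q) (hb1 : b ≠ 1) (hbj : b ≠ j) : b = a ∨ b = j * a := by
  have hj2' : orderOf (⟨j, hj⟩ : Q) = 2 := by
    rw [← Subgroup.orderOf_coe]; exact hj2
  have := eq_or_eq_mul_of_card_four (Q := Q) hQ hj2'
    (a := ⟨a, ha⟩) (b := ⟨b, hb⟩)
    (fun h => ha1 (congrArg Subtype.val h)) (fun h => haj (congrArg Subtype.val h))
    (fun h => hb1 (congrArg Subtype.val h)) (fun h => hbj (congrArg Subtype.val h))
  rcases this with h | h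
  · left; exact congrArg Subtype.val h
  · right; exact congrArg Subtype.val h

variable (j : X) (hjc : ∀ x : X, Commute j x) (hj2 : orderOf j = 2)
  (Q : Subgroup X) (hQ : Nat.card Q = 4) (hjQ : j ∈ Q)
  (j₂ : X) (hj₂Q : j₂ ∈ Q) (hj₂2 : orderOf j₂ = 2) (hj₂ne : j₂ ≠ j)
  (K : Subgroup X) [K.Normal] (hK : Odd (Nat.card K)) (hKi : K.index = 4)

include hKi in
theorem quot_comm_of_index_four (u v : X ⧸ K) : u * v = v * u := by
  apply comm_of_card_four
  rw [← Subgroup.index_eq_card, hKi]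

include hK in
theorem not_mem_of_orderOf_two {a : X} (ha : orderOf a = 2) : a ∉ K := by
  intro h
  have h1 := Subgroup.orderOf_dvd_natCard K h
  rw [ha] at h1
  exact (Nat.not_even_iff_odd.mpr hK) (even_iff_two_dvd.mpr h1)

include hQ hK hKi in
theorem exists_mem_quot_eq (c : X) : ∃ x ∈ Q, (c : X ⧸ K) = (x : X ⧸ K) := by
  have h1 : Nat.card K * Nat.card Q = Nat.card X := by
    rw [hQ, ← hKi]; exact Subgroup.card_mul_index K
  have h2 : (Nat.card K).Coprime (Nat.card Q) := by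
    rw [hQ]
    have h4 : (4 : ℕ) = 2 ^ 2 := by norm_num
    rw [h4]
    exact Nat.Coprime.pow_right 2 (Nat.Coprime.symm (Nat.coprime_two_left.mpr hK))
  have hc := Subgroup.isComplement'_of_coprime h1 h2
  obtain ⟨⟨n, x⟩, hnx⟩ := hc.2 c
  refine ⟨x, x.2, ?_⟩
  have h3 : c = (n : X) * (x : X) := hnx.symm
  rw [h3, QuotientGroup.mk_mul, (QuotientGroup.eq_one_iff (n : X)).mpr n.2, one_mul]

include hQ hjQ hj2 hj₂Q hj₂2 hj₂ne in
theorem enum_four {x : X} (hx : x ∈ Q) : x = 1 ∨ x = j ∨ x = j₂ ∨ x = j * j₂ := by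
  by_cases h1 : x = 1
  · left; exact h1
  by_cases h2 : x = j
  · right; left; exact h2
  right; right
  exact subgroup_four_enum Q hQ hjQ hj2 hj₂Q (ne_one_of_orderOf_two hj₂2) hj₂ne hx h1 h2

include hjc hj2 hj₂2 in
theorem sq_mul_eq_one : (j * j₂) * (j * j₂) = 1 := by
  calc (j * j₂) * (j * j₂) = j * (j₂ * j) * j₂ := by group
    _ = j * (j * j₂) * j₂ := by rw [(hjc j₂).eq]
    _ = (j * j) * (j₂ * j₂) := by group
    _ = 1 := by rw [sq_eq_one_of_orderOf_two hj2, sq_eq_one_of_orderOf_two hj₂2, one_mul]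

include hjc hj2 hQ hjQ hj₂Q hj₂2 hj₂ne hK hKi in
/-- Pairs of involutions with product in the coset `j K`. -/
theorem pairs_iff (a b : X) :
    (orderOf a = 2 ∧ orderOf b = 2 ∧ a * b * j ∈ K) ↔
      ((IsConj j₂ a ∧ IsConj (j * j₂) b) ∨ (IsConj (j * j₂) a ∧ IsConj j₂ b)) := by
  have hqc := quot_comm_of_index_four K hKi
  have hjj : j * j = 1 := sq_eq_one_of_orderOf_two hj2
  have hj₂j₂ : j₂ * j₂ = 1 := sq_eq_one_of_orderOf_two hj₂2
  have hj₃ := sq_mul_eq_one j hjc hj2 j₂ hj₂2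
  have hji : j⁻¹ = j := inv_eq_self_of_orderOf_two hj2
  have hj₂i : j₂⁻¹ = j₂ := inv_eq_self_of_orderOf_two hj₂2
  constructor
  · rintro ⟨ha, hb, hab⟩
    have haa : a * a = 1 := sq_eq_one_of_orderOf_two ha
    have hbb : b * b = 1 := sq_eq_one_of_orderOf_two hb
    have h1 : (a : X ⧸ K) * (b : X ⧸ K) * (j : X ⧸ K) = 1 := by
      rw [← QuotientGroup.mk_mul, ← QuotientGroup.mk_mul]
      exact (QuotientGroup.eq_one_iff _).mpr hab
    have hb' : (b : X ⧸ K) = (a : X ⧸ K)⁻¹ * (j : X ⧸ K)⁻¹ := by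
      have h2 : (a : X ⧸ K) * (b : X ⧸ K) = (j : X ⧸ K)⁻¹ := eq_inv_of_mul_eq_one_left h1
      have h3 : (b : X ⧸ K) = (a : X ⧸ K)⁻¹ * ((a : X ⧸ K) * (b : X ⧸ K)) := by group
      rw [h3, h2]
    obtain ⟨x, hxQ, hax⟩ := exists_mem_quot_eq Q hQ K hK hKi a
    rcases enum_four j hj2 Q hQ hjQ j₂ hj₂Q hj₂2 hj₂ne hxQ with hx | hx | hx | hx <;>
      rw [hx] at hax
    · exfalso
      rw [QuotientGroup.mk_one] at hax
      exact not_mem_of_orderOf_two K hK ha ((QuotientGroup.eq_one_iff a).mp hax)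
    · exfalso
      rw [hax, ← mul_inv_rev, ← QuotientGroup.mk_mul, hjj, QuotientGroup.mk_one, inv_one] at hb'
      exact not_mem_of_orderOf_two K hK hb ((QuotientGroup.eq_one_iff b).mp hb')
    · left
      refine ⟨isConj_of_coset_odd K hK hj₂j₂ haa (QuotientGroup.eq.mp hax.symm), ?_⟩
      have hb'' : ((j * j₂ : X) : X ⧸ K) = (b : X ⧸ K) := by
        rw [hb', hax, ← mul_inv_rev, ← QuotientGroup.mk_mul, ← QuotientGroup.mk_inv,
          inv_eq_of_mul_eq_one_left hj₃]
      exact isConj_of_coset_odd K hK hj₃ hbb (QuotientGroup.eq.mp hb'')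
    · right
      refine ⟨isConj_of_coset_odd K hK hj₃ haa (QuotientGroup.eq.mp hax.symm), ?_⟩
      have hb'' : ((j₂ : X) : X ⧸ K) = (b : X ⧸ K) := by
        rw [hb', hax, ← mul_inv_rev, ← QuotientGroup.mk_mul, ← QuotientGroup.mk_inv]
        have : (j * (j * j₂))⁻¹ = j₂ := by
          rw [← mul_assoc, hjj, one_mul, hj₂i]
        rw [this]
      exact isConj_of_coset_odd K hK hj₂j₂ hbb (QuotientGroup.eq.mp hb'')
  · have hconj : ∀ {w a : X}, IsConj w a → (a : X ⧸ K) = (w : X ⧸ K) := by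
      intro w a h
      obtain ⟨c, hc⟩ := isConj_iff.mp h
      rw [← hc, QuotientGroup.mk_mul, QuotientGroup.mk_mul, hqc (c : X ⧸ K) (w : X ⧸ K),
        mul_assoc, ← QuotientGroup.mk_mul, mul_inv_cancel, QuotientGroup.mk_one, mul_one]
    have hord : ∀ {w a : X}, orderOf w = 2 → IsConj w a → orderOf a = 2 := by
      intro w a hw h
      obtain ⟨c, hc⟩ := isConj_iff.mp h
      rw [← hc]
      exact orderOf_conj_two c hw
    have hj₃2 : orderOf (j * j₂) = 2 := by
      apply orderOf_eq_two_of_sq hj₃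
      intro h
      apply hj₂ne
      have : j₂ = j⁻¹ := eq_inv_of_mul_eq_one_right h
      rw [this, hji]
    have hprod : ((j₂ : X) : X ⧸ K) * ((j * j₂ : X) : X ⧸ K) * (j : X ⧸ K) = 1 := by
      rw [← QuotientGroup.mk_mul, ← QuotientGroup.mk_mul]
      have : j₂ * (j * j₂) * j = 1 := by
        calc j₂ * (j * j₂) * j = j₂ * (j₂ * j) * j := by rw [(hjc j₂).eq]
          _ = (j₂ * j₂) * (j * j) := by group
          _ = 1 := by rw [hjj, hj₂j₂, one_mul]
      rw [this, QuotientGroup.mk_one]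
    rintro (⟨h1, h2⟩ | ⟨h1, h2⟩)
    · refine ⟨hord hj₂2 h1, hord hj₃2 h2, (QuotientGroup.eq_one_iff _).mp ?_⟩
      rw [QuotientGroup.mk_mul, QuotientGroup.mk_mul, hconj h1, hconj h2]
      exact hprod
    · refine ⟨hord hj₃2 h1, hord hj₂2 h2, (QuotientGroup.eq_one_iff _).mp ?_⟩
      rw [QuotientGroup.mk_mul, QuotientGroup.mk_mul, hconj h1, hconj h2,
        hqc ((j * j₂ : X) : X ⧸ K) ((j₂ : X) : X ⧸ K)]
      exact hprod

include hKi in
theorem quot_eq_of_isConj {w a : X} (h : IsConj w a) : (a : X ⧸ K) = (w : X ⧸ K) := by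
  have hqc := quot_comm_of_index_four K hKi
  obtain ⟨c, hc⟩ := isConj_iff.mp h
  rw [← hc, QuotientGroup.mk_mul, QuotientGroup.mk_mul, hqc (c : X ⧸ K) (w : X ⧸ K),
    mul_assoc, ← QuotientGroup.mk_mul, mul_inv_cancel, QuotientGroup.mk_one, mul_one]

include hjc hj2 hQ hjQ hj₂Q hj₂2 hj₂ne hK hKi in
/-- The number of pairs of involutions with product in the coset `j K`. -/
theorem pairs_card :
    Nat.card {ab : X × X // orderOf ab.1 = 2 ∧ orderOf ab.2 = 2 ∧ ab.1 * ab.2 * j ∈ K} =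
      2 * (centralizer ({j₂} : Set X)).index * (centralizer ({j₂} : Set X)).index := by
  classical
  letI := Fintype.ofFinite X
  have hcard₂ : (Finset.univ.filter (fun x : X => IsConj x j₂)).card =
      (centralizer ({j₂} : Set X)).index := by
    rw [← Cfsg.Agent.Lib.Helper4.card_conj_class j₂]
  have hcent : centralizer ({j * j₂} : Set X) = centralizer ({j₂} : Set X) := by
    ext g
    simp only [mem_centralizer_iff, Set.mem_singleton_iff, forall_eq]
    constructor
    · intro h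
      have h1 : j * (j₂ * g) = j * (g * j₂) := by
        calc j * (j₂ * g) = j * j₂ * g := by group
          _ = g * (j * j₂) := h
          _ = (g * j) * j₂ := by group
          _ = (j * g) * j₂ := by rw [(hjc g).eq]
          _ = j * (g * j₂) := by group
      exact mul_left_cancel h1
    · intro h
      calc j * j₂ * g = j * (j₂ * g) := by group
        _ = j * (g * j₂) := by rw [h]
        _ = (j * g) * j₂ := by group
        _ = (g * j) * j₂ := by rw [(hjc g).eq]
        _ = g * (j * j₂) := by group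
  have hcard₃ : (Finset.univ.filter (fun x : X => IsConj x (j * j₂))).card =
      (centralizer ({j₂} : Set X)).index := by
    rw [← hcent, ← Cfsg.Agent.Lib.Helper4.card_conj_class (j * j₂)]
  have hdisj : Disjoint (Finset.univ.filter (fun x : X => IsConj x j₂))
      (Finset.univ.filter (fun x : X => IsConj x (j * j₂))) := by
    rw [Finset.disjoint_left]
    intro a ha ha'
    rw [Finset.mem_filter] at ha ha'
    have h1 := quot_eq_of_isConj K hKi ha.2
    have h2 := quot_eq_of_isConj K hKi ha'.2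
    have h3 : ((j₂ : X) : X ⧸ K) = ((j * j₂ : X) : X ⧸ K) := by rw [h1, h2]
    have h4 := QuotientGroup.eq.mp h3
    have h5 : j₂⁻¹ * (j * j₂) = j := by
      rw [(hjc j₂).eq]; group
    rw [h5] at h4
    exact not_mem_of_orderOf_two K hK hj2 h4
  rw [Nat.card_eq_fintype_card, Fintype.card_subtype]
  have hset : Finset.univ.filter
      (fun ab : X × X => orderOf ab.1 = 2 ∧ orderOf ab.2 = 2 ∧ ab.1 * ab.2 * j ∈ K) =
      ((Finset.univ.filter (fun x : X => IsConj x j₂)) ×ˢ
        (Finset.univ.filter (fun x : X => IsConj x (j * j₂)))) ∪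
      ((Finset.univ.filter (fun x : X => IsConj x (j * j₂))) ×ˢ
        (Finset.univ.filter (fun x : X => IsConj x j₂))) := by
    ext ⟨a, b⟩
    simp only [Finset.mem_filter, Finset.mem_univ, true_and, Finset.mem_union, Finset.mem_product]
    rw [pairs_iff j hjc hj2 Q hQ hjQ j₂ hj₂Q hj₂2 hj₂ne K hK hKi a b]
    constructor
    · rintro (⟨h1, h2⟩ | ⟨h1, h2⟩)
      · left; exact ⟨h1.symm, h2.symm⟩
      · right; exact ⟨h1.symm, h2.symm⟩
    · rintro (⟨h1, h2⟩ | ⟨h1, h2⟩)
      · left; exact ⟨h1.symm, h2.symm⟩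
      · right; exact ⟨h1.symm, h2.symm⟩
  rw [hset, Finset.card_union_of_disjoint, Finset.card_product, Finset.card_product, hcard₂, hcard₃]
  · ring
  · rw [Finset.disjoint_product]
    left
    exact hdisj

end Pairs

end Cfsg.Agent.Lib.Helper79
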