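import Mathlib
import Cfsg.Agent.Lib.Helper79.Klein2
import Cfsg.Agent.Lib.Helper79.Klein3

/-!
# Groups of order `4 g₀` (`g₀` odd) without normal 2-complement: counting pairs of involutions
(helper79)
-/

set_option autoImplicit false

namespace Cfsg.Agent.Lib.Helper79

open Subgroup

section

variable {G : Type*} [Group G]

/-- If `g h = (J c)⁻¹` for involutions `g, h, J` and `c` of odd order commuting with `J`, then
`g` and `h` centralize `J`. -/
theorem commute_of_involution_pair {J g h c : G} (hJ2 : orderOf J = 2) (hg : orderOf g = 2)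
    (hh : orderOf h = 2) (hcJ : Commute J c) (hc : Odd (orderOf c))
    (hprod : g * h * (J * c) = 1) : Commute g J ∧ Commute h J := by
  have hgi : g⁻¹ = g := inv_eq_self_of_orderOf_two hg
  have hhi : h⁻¹ = h := inv_eq_self_of_orderOf_two hh
  have hJi : J⁻¹ = J := inv_eq_self_of_orderOf_two hJ2
  have hu : g * h = (J * c)⁻¹ := eq_inv_of_mul_eq_one_left hprod
  have hu' : J * c = h * g := by
    have : J * c = (g * h)⁻¹ := by rw [hu, inv_inv]
    rw [this, mul_inv_rev, hgi, hhi]
  have hconj : g * (J * c) * g⁻¹ = (J * c)⁻¹ := by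
    rw [← hu, hu']; group
  obtain ⟨r, hr⟩ := hc
  have hJm : J ^ orderOf c = J := by
    rw [hr, pow_succ, pow_mul, pow_two, sq_eq_one_of_orderOf_two hJ2, one_pow, one_mul]
  have hum : (J * c) ^ orderOf c = J := by
    rw [hcJ.mul_pow, pow_orderOf_eq_one, mul_one, hJm]
  have hgJ : g * J * g⁻¹ = J := by
    calc g * J * g⁻¹ = g * (J * c) ^ orderOf c * g⁻¹ := by rw [hum]
      _ = (g * (J * c) * g⁻¹) ^ orderOf c := conj_pow.symm
      _ = ((J * c) ^ orderOf c)⁻¹ := by rw [hconj, inv_pow]
      _ = J := by rw [hum, hJi]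
  have h1 : Commute g J := by
    show g * J = J * g
    calc g * J = g * J * g⁻¹ * g := by group
      _ = J * g := by rw [hgJ]
  refine ⟨h1, ?_⟩
  have h2 : Commute (J * c) J := (Commute.refl J).mul_left hcJ.symm
  have h3 : h = g * (J * c)⁻¹ := by
    rw [← hu, ← mul_assoc, sq_eq_one_of_orderOf_two hg, one_mul]
  rw [h3]
  exact h1.mul_left h2.inv_left

end

section

variable {G : Type*} [Group G] [Finite G]

/-- The number of pairs of conjugates of `J` whose product lies in `J O(C(J))`. -/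
theorem klein_count (g₀ : ℕ) (hg₀ : Odd g₀) (hG : Nat.card G = 4 * g₀)
    (hnc : ¬ ∃ N : Subgroup G, N.Normal ∧ Nat.card N = g₀) (P : Sylow 2 G) {J : G}
    (hJ : J ∈ (P : Subgroup G)) (hJ2 : orderOf J = 2) :
    ∃ n : ℕ, n * Nat.card (centralizer ((P : Subgroup G) : Set G)) =
        Nat.card (centralizer ({J} : Set G)) ∧
      Nat.card {gh : G × G // IsConj J gh.1 ∧ IsConj J gh.2 ∧
        ∃ c : centralizer ({J} : Set G), c ∈ Cfsg.pPrimeCore 2 (centralizer ({J} : Set G)) ∧
          gh.1 * gh.2 * (J * (c : G)) = 1} = 2 * n * n := by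
  haveI : Fact (Nat.Prime 2) := ⟨Nat.prime_two⟩
  have hP := card_sylow_two_of_card g₀ hg₀ hG P
  obtain ⟨J₂, hJ₂P, hJ₂2, hJ₂ne, hconj₂, hconj₃⟩ := exists_fusion g₀ hg₀ hG hnc P hJ hJ2
  have hPC := sylow_le_centralizer P hP hJ
  have hJC : J ∈ centralizer ({J} : Set G) := hPC hJ
  have hJ₂C : J₂ ∈ centralizer ({J} : Set G) := hPC hJ₂P
  have hjc : ∀ x : centralizer ({J} : Set G),
      Commute (⟨J, hJC⟩ : centralizer ({J} : Set G)) x := by
    intro x
    apply Subtype.ext
    push_cast
    exact (commute_of_mem_centralizer_singleton x.2).eq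
  have hj2 : orderOf (⟨J, hJC⟩ : centralizer ({J} : Set G)) = 2 := by
    rw [← Subgroup.orderOf_coe]; exact hJ2
  have hj₂2 : orderOf (⟨J₂, hJ₂C⟩ : centralizer ({J} : Set G)) = 2 := by
    rw [← Subgroup.orderOf_coe]; exact hJ₂2
  have hj₂ne : (⟨J₂, hJ₂C⟩ : centralizer ({J} : Set G)) ≠ ⟨J, hJC⟩ :=
    fun h => hJ₂ne (congrArg Subtype.val h)
  have hQ : Nat.card ((P : Subgroup G).subgroupOf (centralizer ({J} : Set G))) = 4 := by
    rw [Nat.card_congr (Subgroup.subgroupOfEquivOfLe hPC).toEquiv]; exact hP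
  have hjQ : (⟨J, hJC⟩ : centralizer ({J} : Set G)) ∈
      (P : Subgroup G).subgroupOf (centralizer ({J} : Set G)) := mem_subgroupOf.mpr hJ
  have hj₂Q : (⟨J₂, hJ₂C⟩ : centralizer ({J} : Set G)) ∈
      (P : Subgroup G).subgroupOf (centralizer ({J} : Set G)) := mem_subgroupOf.mpr hJ₂P
  haveI hKn : (Cfsg.pPrimeCore 2 (centralizer ({J} : Set G))).Normal :=
    Cfsg.Agent.Lib.Helper81.pPrimeCore_normal 2
  have hK : Odd (Nat.card (Cfsg.pPrimeCore 2 (centralizer ({J} : Set G)))) :=
    Nat.coprime_two_right.mp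
      (Cfsg.Agent.Lib.Helper81.pPrimeCore_coprime (G := centralizer ({J} : Set G)) 2)
  have hKi := index_pPrimeCore_centralizer P hP hJ hJ2
  refine ⟨(centralizer ({(⟨J₂, hJ₂C⟩ : centralizer ({J} : Set G))} :
    Set (centralizer ({J} : Set G)))).index, ?_, ?_⟩
  · have hmap : (centralizer ({(⟨J₂, hJ₂C⟩ : centralizer ({J} : Set G))} :
        Set (centralizer ({J} : Set G)))).map (centralizer ({J} : Set G)).subtype =
        centralizer ((P : Subgroup G) : Set G) := by
      ext g
      constructor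
      · rintro ⟨c, hc, rfl⟩
        have h1 : Commute J₂ (c : G) := by
          have h0 := (commute_of_mem_centralizer_singleton hc).eq
          have h0' := congrArg Subtype.val h0
          push_cast at h0'
          exact h0'
        have h2 : Commute J (c : G) := commute_of_mem_centralizer_singleton c.2
        rw [mem_centralizer_iff]
        intro x hx
        rcases enum_four (X := G) J hJ2 (P : Subgroup G) hP hJ J₂ hJ₂P hJ₂2 hJ₂ne hx with
          h | h | h | h <;> rw [h]
        · simp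
        · exact h2.eq
        · exact h1.eq
        · exact (h2.mul_left h1).eq
      · intro hg
        rw [mem_centralizer_iff] at hg
        have h2 : Commute J g := hg J hJ
        have h1 : Commute J₂ g := hg J₂ hJ₂P
        refine ⟨⟨g, mem_centralizer_singleton_of_commute h2⟩, ?_, rfl⟩
        apply mem_centralizer_singleton_of_commute
        apply Subtype.ext
        push_cast
        exact h1.eq
    rw [← hmap, Subgroup.card_map_of_injective (Subgroup.subtype_injective _), mul_comm]
    exact Subgroup.card_mul_index _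
  · rw [← pairs_card (⟨J, hJC⟩ : centralizer ({J} : Set G)) hjc hj2 _ hQ hjQ
      (⟨J₂, hJ₂C⟩ : centralizer ({J} : Set G)) hj₂Q hj₂2 hj₂ne
      (Cfsg.pPrimeCore 2 (centralizer ({J} : Set G))) hK hKi]
    symm
    have hlift : ∀ {w a : centralizer ({J} : Set G)}, IsConj w a → IsConj (w : G) (a : G) := by
      intro w a h
      obtain ⟨c, hc⟩ := isConj_iff.mp h
      refine isConj_iff.mpr ⟨(c : G), ?_⟩
      rw [← hc]
      push_cast
      rfl
    have hwd : ∀ a b : centralizer ({J} : Set G),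
        (orderOf a = 2 ∧ orderOf b = 2 ∧
          a * b * (⟨J, hJC⟩ : centralizer ({J} : Set G)) ∈
            Cfsg.pPrimeCore 2 (centralizer ({J} : Set G))) →
        (IsConj J (a : G) ∧ IsConj J (b : G) ∧
          ∃ c : centralizer ({J} : Set G), c ∈ Cfsg.pPrimeCore 2 (centralizer ({J} : Set G)) ∧
            (a : G) * (b : G) * (J * (c : G)) = 1) := by
      intro a b hab
      have hc : ∃ c : centralizer ({J} : Set G),
          c ∈ Cfsg.pPrimeCore 2 (centralizer ({J} : Set G)) ∧
            (a : G) * (b : G) * (J * (c : G)) = 1 := by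
        refine ⟨(a * b * (⟨J, hJC⟩ : centralizer ({J} : Set G)))⁻¹, inv_mem hab.2.2, ?_⟩
        push_cast
        group
      rcases (pairs_iff (⟨J, hJC⟩ : centralizer ({J} : Set G)) hjc hj2 _ hQ hjQ
        (⟨J₂, hJ₂C⟩ : centralizer ({J} : Set G)) hj₂Q hj₂2 hj₂ne
        (Cfsg.pPrimeCore 2 (centralizer ({J} : Set G))) hK hKi a b).mp hab with ⟨h1, h2⟩ | ⟨h1, h2⟩
      · exact ⟨hconj₂.trans (hlift h1), hconj₃.trans (hlift h2), hc⟩
      · exact ⟨hconj₃.trans (hlift h1), hconj₂.trans (hlift h2), hc⟩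
    have hsurj : ∀ g h : G, (IsConj J g ∧ IsConj J h ∧
          ∃ c : centralizer ({J} : Set G), c ∈ Cfsg.pPrimeCore 2 (centralizer ({J} : Set G)) ∧
            g * h * (J * (c : G)) = 1) →
        ∃ a b : centralizer ({J} : Set G), (a : G) = g ∧ (b : G) = h ∧
          (orderOf a = 2 ∧ orderOf b = 2 ∧
            a * b * (⟨J, hJC⟩ : centralizer ({J} : Set G)) ∈
              Cfsg.pPrimeCore 2 (centralizer ({J} : Set G))) := by
      rintro g h ⟨hg, hh, c, hcK, hprod⟩
      have hg2 : orderOf g = 2 := by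
        obtain ⟨t, ht⟩ := isConj_iff.mp hg
        rw [← ht]; exact orderOf_conj_two t hJ2
      have hh2 : orderOf h = 2 := by
        obtain ⟨t, ht⟩ := isConj_iff.mp hh
        rw [← ht]; exact orderOf_conj_two t hJ2
      have hcodd : Odd (orderOf (c : G)) := by
        rw [Subgroup.orderOf_coe]
        exact Odd.of_dvd_nat hK (Subgroup.orderOf_dvd_natCard _ hcK)
      have hcJ : Commute J (c : G) := commute_of_mem_centralizer_singleton c.2
      obtain ⟨h1, h2⟩ := commute_of_involution_pair hJ2 hg2 hh2 hcJ hcodd hprod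
      refine ⟨⟨g, mem_centralizer_singleton_of_commute h1.symm⟩,
        ⟨h, mem_centralizer_singleton_of_commute h2.symm⟩, rfl, rfl, ?_, ?_, ?_⟩
      · rw [← Subgroup.orderOf_coe]; exact hg2
      · rw [← Subgroup.orderOf_coe]; exact hh2
      · have h3 : (⟨g, mem_centralizer_singleton_of_commute h1.symm⟩ : centralizer ({J} : Set G)) *
            ⟨h, mem_centralizer_singleton_of_commute h2.symm⟩ * ⟨J, hJC⟩ = c⁻¹ := by
          apply eq_inv_of_mul_eq_one_left
          apply Subtype.ext
          push_cast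
          rw [← hprod]
          group
        rw [h3]
        exact inv_mem hcK
    refine Nat.card_congr (Equiv.ofBijective
      (fun ab : {ab : centralizer ({J} : Set G) × centralizer ({J} : Set G) //
          orderOf ab.1 = 2 ∧ orderOf ab.2 = 2 ∧
            ab.1 * ab.2 * (⟨J, hJC⟩ : centralizer ({J} : Set G)) ∈
              Cfsg.pPrimeCore 2 (centralizer ({J} : Set G))} =>
        (⟨((ab.1.1 : G), (ab.1.2 : G)), hwd ab.1.1 ab.1.2 ab.2⟩ :
          {gh : G × G // IsConj J gh.1 ∧ IsConj J gh.2 ∧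
            ∃ c : centralizer ({J} : Set G), c ∈ Cfsg.pPrimeCore 2 (centralizer ({J} : Set G)) ∧
              gh.1 * gh.2 * (J * (c : G)) = 1})) ⟨?_, ?_⟩)
    · rintro ⟨⟨a, b⟩, hab⟩ ⟨⟨a', b'⟩, hab'⟩ h
      simp only [Subtype.mk.injEq, Prod.mk.injEq] at h
      obtain ⟨h1, h2⟩ := h
      have ha : a = a' := Subtype.ext h1
      have hb : b = b' := Subtype.ext h2
      subst ha hb
      rfl
    · rintro ⟨⟨g, h⟩, hgh⟩
      obtain ⟨a, b, rfl, rfl, hab⟩ := hsurj g h hgh
      exact ⟨⟨(a, b), hab⟩, rfl⟩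

end

end Cfsg.Agent.Lib.Helper79
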