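import Mathlib
import Cfsg.Agent.Lib.Helper79.Klein4
import Cfsg.Agent.Lib.Helper79.Prin3
import Cfsg.Agent.Lib.Helper82.CharCore

/-!
# Brauer's order formula from the principal 2-block (helper79)
-/

set_option autoImplicit false

namespace Cfsg.Agent.Lib.Helper79

open Cfsg Cfsg.Agent.Lib.Helper4 Cfsg.Agent.Lib.Helper21 Cfsg.Agent.Lib.Helper22
open Subgroup
open scoped ComplexConjugate

section

variable {G : Type*} [Group G] [Fintype G]

open scoped Classical in
/-- Summing the class multiplication counts over a subgroup `K` of `C(J)` counts the pairs with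
product in `(J K)⁻¹`. -/
theorem sum_pair_counts (J : G) (K : Subgroup (centralizer ({J} : Set G)))
    [Fintype (centralizer ({J} : Set G))] :
    ∑ x : centralizer ({J} : Set G), (if x ∈ K then
        ∑ g : G, ∑ h : G, (if IsConj J g then (1 : ℂ) else 0)
          * (if IsConj J h then (1 : ℂ) else 0) * (if g * h * (J * (x : G)) = 1 then (1 : ℂ) else 0)
        else 0) =
      (Nat.card {gh : G × G // IsConj J gh.1 ∧ IsConj J gh.2 ∧
        ∃ c : centralizer ({J} : Set G), c ∈ K ∧ gh.1 * gh.2 * (J * (c : G)) = 1} : ℂ) := by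
  have h1 : ∀ x : centralizer ({J} : Set G), (if x ∈ K then
        ∑ g : G, ∑ h : G, (if IsConj J g then (1 : ℂ) else 0)
          * (if IsConj J h then (1 : ℂ) else 0) * (if g * h * (J * (x : G)) = 1 then (1 : ℂ) else 0)
        else 0) =
      ∑ g : G, ∑ h : G, (if x ∈ K then (if IsConj J g then (1 : ℂ) else 0)
          * (if IsConj J h then (1 : ℂ) else 0) * (if g * h * (J * (x : G)) = 1 then (1 : ℂ) else 0)
        else 0) := by
    intro x
    by_cases hx : x ∈ K
    · simp only [hx, if_true]
    · simp only [hx, if_false, Finset.sum_const_zero]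
  rw [Finset.sum_congr rfl (fun x _ => h1 x), Finset.sum_comm]
  have h2 : ∀ g : G, ∑ x : centralizer ({J} : Set G), ∑ h : G,
      (if x ∈ K then (if IsConj J g then (1 : ℂ) else 0)
          * (if IsConj J h then (1 : ℂ) else 0) * (if g * h * (J * (x : G)) = 1 then (1 : ℂ) else 0)
        else 0) =
      ∑ h : G, (if (IsConj J g ∧ IsConj J h ∧
        ∃ c : centralizer ({J} : Set G), c ∈ K ∧ g * h * (J * (c : G)) = 1) then (1 : ℂ) else 0) := by
    intro g
    rw [Finset.sum_comm]
    refine Finset.sum_congr rfl fun h _ => ?_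
    by_cases hex : ∃ c : centralizer ({J} : Set G), c ∈ K ∧ g * h * (J * (c : G)) = 1
    · obtain ⟨c₀, hc₀K, hc₀⟩ := hex
      rw [Finset.sum_eq_single c₀]
      · rw [if_pos hc₀K, if_pos hc₀, mul_one]
        have hex' : ∃ c : centralizer ({J} : Set G), c ∈ K ∧ g * h * (J * (c : G)) = 1 :=
          ⟨c₀, hc₀K, hc₀⟩
        by_cases hg : IsConj J g <;> by_cases hh : IsConj J h
        · rw [if_pos hg, if_pos hh, mul_one]
          exact (if_pos ⟨hg, hh, hex'⟩).symm
        · rw [if_neg hh, mul_zero]
          exact (if_neg (fun hcon => hh hcon.2.1)).symm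
        · rw [if_neg hg, zero_mul]
          exact (if_neg (fun hcon => hg hcon.1)).symm
        · rw [if_neg hg, zero_mul]
          exact (if_neg (fun hcon => hg hcon.1)).symm
      · intro x _ hx
        by_cases hxK : x ∈ K
        · rw [if_pos hxK]
          have hne : g * h * (J * (x : G)) ≠ 1 := by
            intro hx1
            apply hx
            have h3 : g * h * (J * (x : G)) = g * h * (J * (c₀ : G)) := by rw [hx1, hc₀]
            exact Subtype.ext (mul_left_cancel (mul_left_cancel h3))
          rw [if_neg hne, mul_zero]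
        · rw [if_neg hxK]
      · intro hcon
        exact absurd (Finset.mem_univ c₀) hcon
    · have hR : (if (IsConj J g ∧ IsConj J h ∧
          ∃ c : centralizer ({J} : Set G), c ∈ K ∧ g * h * (J * (c : G)) = 1) then (1 : ℂ) else 0) = 0 :=
        if_neg (fun hcon => hex hcon.2.2)
      rw [hR]
      apply Finset.sum_eq_zero
      intro x _
      by_cases hxK : x ∈ K
      · rw [if_pos hxK, if_neg (fun hx1 => hex ⟨x, hxK, hx1⟩), mul_zero]
      · rw [if_neg hxK]
  rw [Finset.sum_congr rfl (fun g _ => h2 g), Nat.card_eq_fintype_card, Fintype.card_subtype,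
    Finset.card_filter, Nat.cast_sum, Fintype.sum_prod_type]
  refine Finset.sum_congr rfl fun g _ => ?_
  refine Finset.sum_congr rfl fun h _ => ?_
  split_ifs <;> simp

end

section

variable {G : Type*} [Group G] [Finite G] {M : Ideal AlgInt}

/-- Brauer's order formula, character form: for a group of order `4 g₀` (`g₀` odd) without normal
2-complement and an involution `J` of a Sylow 2-subgroup `P`,
`#G · Σ_{χ ∈ B₀} χ(J)³ / χ(1) = 8 n² c(J)` where `n = c(J) / c(P)`. -/
theorem klein_formula [Fact (Nat.Prime 2)] (hM : IsPModular 2 M) (g₀ : ℕ) (hg₀ : Odd g₀)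
    (hG : Nat.card G = 4 * g₀)
    (hnc : ¬ ∃ N : Subgroup G, N.Normal ∧ Nat.card N = g₀) (P : Sylow 2 G) {J : G}
    (hJ : J ∈ (P : Subgroup G)) (hJ2 : orderOf J = 2) :
    ∃ n : ℕ, n * Nat.card (centralizer ((P : Subgroup G) : Set G)) =
        Nat.card (centralizer ({J} : Set G)) ∧
      (Nat.card G : ℂ) * ∑ᶠ χ ∈ principalBlock M G, ((χ : G → ℂ) J) ^ 3 / (χ : G → ℂ) 1 =
        8 * (n : ℂ) ^ 2 * (Nat.card (centralizer ({J} : Set G)) : ℂ) := by
  classical
  obtain ⟨n, hn, hcount⟩ := klein_count g₀ hg₀ hG hnc P hJ hJ2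
  refine ⟨n, hn, ?_⟩
  letI := Fintype.ofFinite G
  haveI := irr_finite (G := G)
  letI := Fintype.ofFinite (IrrCharacter G)
  letI : Fintype (centralizer ({J} : Set G)) := Fintype.ofFinite _
  have hP := card_sylow_two_of_card g₀ hg₀ hG P
  have hKi := index_pPrimeCore_centralizer P hP hJ hJ2
  have hKi' : (pPrimeCore 2 (centralizer ({J} : Set G))).index = 2 ^ 2 := by rw [hKi]; norm_num
  have hGne : (Nat.card G : ℂ) ≠ 0 := card_ne_zero_complex
  have hCne : (Nat.card (centralizer ({J} : Set G)) : ℂ) ≠ 0 := by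
    exact_mod_cast (Nat.card_pos (α := centralizer ({J} : Set G))).ne'
  have hidx : ((centralizer ({J} : Set G)).index : ℂ) *
      (Nat.card (centralizer ({J} : Set G)) : ℂ) = (Nat.card G : ℂ) := by
    rw [← Nat.cast_mul, mul_comm, Subgroup.card_mul_index]
  -- the class function
  set θ : centralizer ({J} : Set G) → ℂ := fun c => ∑ χ : IrrCharacter G,
    (χ : G → ℂ) (J * (c : G)) *
      ((((centralizer ({J} : Set G)).index : ℂ) * (χ : G → ℂ) J)
        * (((centralizer ({J} : Set G)).index : ℂ) * (χ : G → ℂ) J) / (χ : G → ℂ) 1) with hθ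
  have hθcnt : ∀ c : centralizer ({J} : Set G), θ c = (Nat.card G : ℂ) *
      ∑ g : G, ∑ h : G, (if IsConj J g then (1 : ℂ) else 0)
        * (if IsConj J h then (1 : ℂ) else 0) * (if g * h * (J * (c : G)) = 1 then (1 : ℂ) else 0) := by
    intro c
    have h0 := Cfsg.Agent.Lib.Helper82.class_constant J J (J * (c : G))
    have h0' : (Nat.card G : ℂ) *
      ∑ g : G, ∑ h : G, (if IsConj J g then (1 : ℂ) else 0)
        * (if IsConj J h then (1 : ℂ) else 0) * (if g * h * (J * (c : G)) = 1 then (1 : ℂ) else 0) =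
      ∑ χ : IrrCharacter G,
          (((Subgroup.centralizer ({J} : Set G)).index : ℂ) * (χ : G → ℂ) J)
          * (((Subgroup.centralizer ({J} : Set G)).index : ℂ) * (χ : G → ℂ) J)
          * (χ : G → ℂ) (J * (c : G)) / (χ : G → ℂ) 1 := by
      convert h0 using 2
    rw [h0']
    simp only [hθ]
    refine Finset.sum_congr rfl fun χ _ => ?_
    ring
  -- block part, character side
  have h1reg : ¬ 2 ∣ orderOf (1 : centralizer ({J} : Set G)) := by
    rw [orderOf_one]; norm_num
  have hJp : ∃ k : ℕ, orderOf J = 2 ^ k := ⟨1, by rw [hJ2, pow_one]⟩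
  have h1 : blockPart (principalBlock M (centralizer ({J} : Set G))) θ 1 =
      ∑ χ : IrrCharacter G, blockPart (principalBlock M (centralizer ({J} : Set G)))
        (fun c : centralizer ({J} : Set G) => (χ : G → ℂ) (J * (c : G))) 1 *
      ((((centralizer ({J} : Set G)).index : ℂ) * (χ : G → ℂ) J)
        * (((centralizer ({J} : Set G)).index : ℂ) * (χ : G → ℂ) J) / (χ : G → ℂ) 1) :=
    blockPart_sum Finset.univ (principalBlock M (centralizer ({J} : Set G)))
      (fun χ : IrrCharacter G => (((centralizer ({J} : Set G)).index : ℂ) * (χ : G → ℂ) J)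
        * (((centralizer ({J} : Set G)).index : ℂ) * (χ : G → ℂ) J) / (χ : G → ℂ) 1)
      (fun χ c => (χ : G → ℂ) (J * (c : G))) 1
  have h2 : ∑ χ : IrrCharacter G, blockPart (principalBlock M (centralizer ({J} : Set G)))
        (fun c : centralizer ({J} : Set G) => (χ : G → ℂ) (J * (c : G))) 1 *
      ((((centralizer ({J} : Set G)).index : ℂ) * (χ : G → ℂ) J)
        * (((centralizer ({J} : Set G)).index : ℂ) * (χ : G → ℂ) J) / (χ : G → ℂ) 1) =
      ((centralizer ({J} : Set G)).index : ℂ) ^ 2 *
        ∑ χ : IrrCharacter G, (if χ ∈ principalBlock M G then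
          ((χ : G → ℂ) J) ^ 3 / (χ : G → ℂ) 1 else 0) := by
    rw [Finset.mul_sum]
    refine Finset.sum_congr rfl fun χ _ => ?_
    by_cases hχ : χ ∈ principalBlock M G
    · rw [if_pos hχ, ← twist_eq_blockPart_principal hM J hJp χ hχ 1 h1reg]
      have : ((1 : centralizer ({J} : Set G)) : G) = 1 := rfl
      rw [this, mul_one]
      ring
    · rw [if_neg hχ, blockPart_principal_eq_zero hM J hJp χ hχ 1 h1reg, zero_mul, mul_zero]
  -- block part, group side
  have h3 := blockPart_principal_one_of_index hM 2 hKi' θ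
  have h4 : ∑ᶠ x ∈ ((pPrimeCore 2 (centralizer ({J} : Set G)) :
      Subgroup (centralizer ({J} : Set G))) : Set (centralizer ({J} : Set G))), θ x =
      (Nat.card G : ℂ) * (2 * (n : ℂ) * (n : ℂ)) := by
    rw [finsum_mem_eq_sum_filter_univ, Finset.sum_filter]
    have h5 := sum_pair_counts J (pPrimeCore 2 (centralizer ({J} : Set G)))
    rw [hcount] at h5
    have h6 : ∀ x : centralizer ({J} : Set G),
        (if x ∈ ((pPrimeCore 2 (centralizer ({J} : Set G)) :
          Subgroup (centralizer ({J} : Set G))) : Set (centralizer ({J} : Set G))) then θ x else 0) =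
        (Nat.card G : ℂ) * (if x ∈ pPrimeCore 2 (centralizer ({J} : Set G)) then
          ∑ g : G, ∑ h : G, (if IsConj J g then (1 : ℂ) else 0)
            * (if IsConj J h then (1 : ℂ) else 0) *
              (if g * h * (J * (x : G)) = 1 then (1 : ℂ) else 0) else 0) := by
      intro x
      by_cases hx : x ∈ pPrimeCore 2 (centralizer ({J} : Set G))
      · have hx' : x ∈ ((pPrimeCore 2 (centralizer ({J} : Set G)) :
          Subgroup (centralizer ({J} : Set G))) : Set (centralizer ({J} : Set G))) := hx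
        rw [if_pos hx, if_pos hx', hθcnt x]
      · have hx' : x ∉ ((pPrimeCore 2 (centralizer ({J} : Set G)) :
          Subgroup (centralizer ({J} : Set G))) : Set (centralizer ({J} : Set G))) := hx
        rw [if_neg hx, if_neg hx', mul_zero]
    rw [Finset.sum_congr rfl (fun x _ => h6 x), ← Finset.mul_sum]
    congr 1
    have h7 : ∑ x : centralizer ({J} : Set G),
        (if x ∈ pPrimeCore 2 (centralizer ({J} : Set G)) then
          ∑ g : G, ∑ h : G, (if IsConj J g then (1 : ℂ) else 0)
            * (if IsConj J h then (1 : ℂ) else 0) *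
              (if g * h * (J * (x : G)) = 1 then (1 : ℂ) else 0) else 0) =
        ((2 * n * n : ℕ) : ℂ) := by
      convert h5 using 2
    rw [h7]
    push_cast
    ring
  rw [h1, h2, h4] at h3
  rw [finsum_mem_eq_sum_filter_univ, Finset.sum_filter]
  set S : ℂ := ∑ χ : IrrCharacter G, (if χ ∈ principalBlock M G then
          ((χ : G → ℂ) J) ^ 3 / (χ : G → ℂ) 1 else 0) with hS
  have hidx' : ((centralizer ({J} : Set G)).index : ℂ) =
      (Nat.card G : ℂ) / (Nat.card (centralizer ({J} : Set G)) : ℂ) := by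
    rw [← hidx]; field_simp
  rw [hidx'] at h3
  have h8 : (Nat.card G : ℂ) * ((Nat.card G : ℂ) * S) =
      (Nat.card G : ℂ) * (8 * (n : ℂ) ^ 2 * (Nat.card (centralizer ({J} : Set G)) : ℂ)) := by
    have h9 : (Nat.card G : ℂ) * ((Nat.card G : ℂ) * S) =
        (Nat.card (centralizer ({J} : Set G)) : ℂ) ^ 2 *
          (((Nat.card G : ℂ) / (Nat.card (centralizer ({J} : Set G)) : ℂ)) ^ 2 * S) := by
      field_simp
    rw [h9, h3]
    push_cast
    field_simp
    ring
  exact mul_left_cancel₀ hGne h8

end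

end Cfsg.Agent.Lib.Helper79
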