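import Mathlib
import Cfsg.Agent.Lib.Helper79.Klein5
import Cfsg.Agent.Lib.Helper79.FSCount

/-!
# Principal 2-block with four characters: relations (helper79)
-/

set_option autoImplicit false

namespace Cfsg.Agent.Lib.Helper79

open Cfsg Cfsg.Agent.Lib.Helper4 Cfsg.Agent.Lib.Helper21 Cfsg.Agent.Lib.Helper22
open Subgroup
open scoped ComplexConjugate

section

variable {G : Type*} [Group G] [Finite G] {M : Ideal AlgInt}

/-- A sum over a principal block consisting of four characters. -/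
theorem four_sum (χ₁ χ₂ χ₃ : IrrCharacter G)
    (hB : principalBlock M G = {χ : IrrCharacter G | (χ : G → ℂ) = (fun _ => 1) ∨ χ = χ₁ ∨
      χ = χ₂ ∨ χ = χ₃})
    (hdist : (χ₁ : G → ℂ) ≠ (fun _ => 1) ∧ (χ₂ : G → ℂ) ≠ (fun _ => 1) ∧
      (χ₃ : G → ℂ) ≠ (fun _ => 1) ∧ χ₁ ≠ χ₂ ∧ χ₁ ≠ χ₃ ∧ χ₂ ≠ χ₃)
    (f : IrrCharacter G → ℂ) :
    ∑ᶠ χ ∈ principalBlock M G, f χ =
      f (Cfsg.Agent.Lib.Helper83.trivIrr G) + f χ₁ + f χ₂ + f χ₃ := by
  classical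
  obtain ⟨h1, h2, h3, h12, h13, h23⟩ := hdist
  have hset : principalBlock M G =
      (({Cfsg.Agent.Lib.Helper83.trivIrr G, χ₁, χ₂, χ₃} : Finset (IrrCharacter G)) :
        Set (IrrCharacter G)) := by
    rw [hB]
    ext χ
    simp only [Set.mem_setOf_eq, Finset.coe_insert, Finset.coe_singleton, Set.mem_insert_iff,
      Set.mem_singleton_iff]
    constructor
    · rintro (h | h | h | h)
      · left; exact Subtype.ext h
      · right; left; exact h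
      · right; right; left; exact h
      · right; right; right; exact h
    · rintro (h | h | h | h)
      · left; rw [h]; rfl
      · right; left; exact h
      · right; right; left; exact h
      · right; right; right; exact h
  have ht : ∀ χ : IrrCharacter G, (χ : G → ℂ) ≠ (fun _ => 1) →
      Cfsg.Agent.Lib.Helper83.trivIrr G ≠ χ := by
    intro χ hχ h
    apply hχ
    rw [← h]
    rfl
  rw [hset, finsum_mem_coe_finset, Finset.sum_insert, Finset.sum_insert, Finset.sum_insert,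
    Finset.sum_singleton]
  · ring
  · simp only [Finset.mem_singleton]; exact h23
  · simp only [Finset.mem_insert, Finset.mem_singleton, not_or]; exact ⟨h12, h13⟩
  · simp only [Finset.mem_insert, Finset.mem_singleton, not_or]
    exact ⟨ht χ₁ h1, ht χ₂ h2, ht χ₃ h3⟩

/-- The relations for a group of order `4 g₀` without normal 2-complement whose principal 2-block
consists of four characters. -/
theorem klein_four_relations (hM : IsPModular 2 M) (g₀ : ℕ) (hg₀ : Odd g₀)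
    (hG : Nat.card G = 4 * g₀) (hnc : ¬ ∃ N : Subgroup G, N.Normal ∧ Nat.card N = g₀)
    (P : Sylow 2 G) (J : G) (hJ : J ∈ (P : Subgroup G)) (hJ2 : orderOf J = 2)
    (χ₁ χ₂ χ₃ : IrrCharacter G) (ε₁ ε₂ ε₃ : ℤ)
    (hB : principalBlock M G = {χ : IrrCharacter G | (χ : G → ℂ) = (fun _ => 1) ∨ χ = χ₁ ∨
      χ = χ₂ ∨ χ = χ₃})
    (hdist : (χ₁ : G → ℂ) ≠ (fun _ => 1) ∧ (χ₂ : G → ℂ) ≠ (fun _ => 1) ∧
      (χ₃ : G → ℂ) ≠ (fun _ => 1) ∧ χ₁ ≠ χ₂ ∧ χ₁ ≠ χ₃ ∧ χ₂ ≠ χ₃)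
    (hε : (ε₁ = 1 ∨ ε₁ = -1) ∧ (ε₂ = 1 ∨ ε₂ = -1) ∧ (ε₃ = 1 ∨ ε₃ = -1))
    (hval : (χ₁ : G → ℂ) J = ε₁ ∧ (χ₂ : G → ℂ) J = ε₂ ∧ (χ₃ : G → ℂ) J = ε₃) :
    (1 + ε₁ * (charDegree (χ₁ : G → ℂ) : ℤ) + ε₂ * (charDegree (χ₂ : G → ℂ) : ℤ) +
      ε₃ * (charDegree (χ₃ : G → ℂ) : ℤ) = 0) ∧
    ∃ n : ℕ, n * Nat.card (centralizer ((P : Subgroup G) : Set G)) =
        Nat.card (centralizer ({J} : Set G)) ∧
      (Nat.card G : ℚ) * (1 + (ε₁ : ℚ) / (charDegree (χ₁ : G → ℂ) : ℚ) +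
        (ε₂ : ℚ) / (charDegree (χ₂ : G → ℂ) : ℚ) + (ε₃ : ℚ) / (charDegree (χ₃ : G → ℂ) : ℚ)) =
        8 * (n : ℚ) ^ 2 * (Nat.card (centralizer ({J} : Set G)) : ℚ) := by
  classical
  haveI : Fact (Nat.Prime 2) := ⟨Nat.prime_two⟩
  letI := Fintype.ofFinite G
  have hx₁ := irr_one_eq_charDegree χ₁
  have hx₂ := irr_one_eq_charDegree χ₂
  have hx₃ := irr_one_eq_charDegree χ₃
  constructor
  · have h1reg : ¬ 2 ∣ orderOf (1 : G) := by rw [orderOf_one]; norm_num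
    have hJs : 2 ∣ orderOf J := by rw [hJ2]
    have horth := weak_block_orth hM (principalBlock M G) isPBlock_principalBlock 1 J h1reg hJs
    rw [four_sum χ₁ χ₂ χ₃ hB hdist] at horth
    rw [Cfsg.Agent.Lib.Helper83.trivIrr_apply, Cfsg.Agent.Lib.Helper83.trivIrr_apply, hval.1,
      hval.2.1, hval.2.2, hx₁, hx₂, hx₃] at horth
    simp only [map_one, map_intCast, one_mul] at horth
    have h : ((1 + ε₁ * (charDegree (χ₁ : G → ℂ) : ℤ) + ε₂ * (charDegree (χ₂ : G → ℂ) : ℤ) +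
      ε₃ * (charDegree (χ₃ : G → ℂ) : ℤ) : ℤ) : ℂ) = 0 := by
      push_cast
      linear_combination horth
    exact_mod_cast h
  · obtain ⟨n, hn, hform⟩ := klein_formula hM g₀ hg₀ hG hnc P hJ hJ2
    refine ⟨n, hn, ?_⟩
    rw [four_sum χ₁ χ₂ χ₃ hB hdist] at hform
    rw [Cfsg.Agent.Lib.Helper83.trivIrr_apply, Cfsg.Agent.Lib.Helper83.trivIrr_apply, hval.1,
      hval.2.1, hval.2.2, hx₁, hx₂, hx₃] at hform
    have hc : ∀ ε : ℤ, (ε = 1 ∨ ε = -1) → ((ε : ℂ)) ^ 3 = (ε : ℂ) := by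
      rintro ε (h | h) <;> rw [h] <;> norm_num
    rw [hc ε₁ hε.1, hc ε₂ hε.2.1, hc ε₃ hε.2.2] at hform
    have h : (((Nat.card G : ℚ) * (1 + (ε₁ : ℚ) / (charDegree (χ₁ : G → ℂ) : ℚ) +
        (ε₂ : ℚ) / (charDegree (χ₂ : G → ℂ) : ℚ) + (ε₃ : ℚ) / (charDegree (χ₃ : G → ℂ) : ℚ)) : ℚ) : ℂ) =
        ((8 * (n : ℚ) ^ 2 * (Nat.card (centralizer ({J} : Set G)) : ℚ) : ℚ) : ℂ) := by
      push_cast
      rw [← hform]
      norm_num
    exact_mod_cast h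

end

end Cfsg.Agent.Lib.Helper79
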