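import Mathlib
import Cfsg.Prelude.Def_GeometricClasses
import Cfsg.Prelude.Def_LieClassical
import Cfsg.Agent.Lib.Helper71.Asch5
import Cfsg.Agent.Lib.Helper82.ASB8UNITS
import Cfsg.Agent.Lib.Helper44.BADDefs

/-! Project BAD (helper44; sub-project of helper49's SUG = S5663), piece GUOUT (helper79):
an isometry which is a tensor product is a tensor product of two unitary matrices. -/

set_option autoImplicit false

namespace Cfsg.Agent.Lib.Helper44.BAD

open Matrix Cfsg.Geo Cfsg.Agent.Lib.Helper71.Asch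
open scoped Kronecker

variable {n : ℕ} {F : Type*} [Field F] [Fintype F] {q : ℕ}

omit [Fintype F] in
/-- the action of `P (a ⊗ b) P⁻¹` in the coordinates `P`, `e` -/
theorem GUOUT_tmat_mulVec {d k : ℕ} (e : Fin n ≃ Fin d × Fin k) (P : GL (Fin n) F)
    (a : Matrix (Fin d) (Fin d) F) (b : Matrix (Fin k) (Fin k) F) (x : Fin d × Fin k → F) :
    tmat e P a b *ᵥ (P.1 *ᵥ (x ∘ e)) = P.1 *ᵥ (((a ⊗ₖ b) *ᵥ x) ∘ e) := by
  unfold tmat
  have hP : (P⁻¹ : GL (Fin n) F).1 * P.1 = 1 := by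
    rw [← Units.val_mul, inv_mul_cancel, Units.val_one]
  have key : (Matrix.reindex e.symm e.symm (a ⊗ₖ b)) *ᵥ (x ∘ e) = ((a ⊗ₖ b) *ᵥ x) ∘ e := by
    rw [Matrix.reindex_apply, Matrix.submatrix_mulVec_equiv]
    have hx : (x ∘ ⇑e) ∘ ⇑e.symm = x := by
      funext p
      simp
    show ((a ⊗ₖ b) *ᵥ ((x ∘ ⇑e) ∘ ⇑e.symm)) ∘ ⇑e = _
    rw [hx]
  rw [Matrix.mulVec_mulVec, Matrix.mul_assoc, Matrix.mul_assoc, hP, Matrix.mul_one,
    ← Matrix.mulVec_mulVec, key]

omit [Fintype F] in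
/-- the standard form on two basis vectors -/
theorem GUOUT_single (p p' : Fin 3 × Fin 3) :
    (∑ r, (Pi.single p (1 : F) : Fin 3 × Fin 3 → F) r *
      ((Pi.single p' (1 : F) : Fin 3 × Fin 3 → F) r) ^ 2) = if p = p' then 1 else 0 := by
  classical
  rw [Finset.sum_eq_single p]
  · by_cases hpp : p = p'
    · subst hpp
      simp
    · simp [Pi.single_apply, hpp]
  · intro r _ hr
    simp [Pi.single_apply, hr]
  · intro h
    exact absurd (Finset.mem_univ _) h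

omit [Fintype F] in
/-- the twisted Gram matrix of a Kronecker product on two basis vectors -/
theorem GUOUT_kron (a b : Matrix (Fin 3) (Fin 3) F) (p p' : Fin 3 × Fin 3) :
    (∑ r, ((a ⊗ₖ b) *ᵥ (Pi.single p (1 : F) : Fin 3 × Fin 3 → F)) r *
      (((a ⊗ₖ b) *ᵥ (Pi.single p' (1 : F) : Fin 3 × Fin 3 → F)) r) ^ 2) =
    (∑ r : Fin 3, a r p.1 * (a r p'.1) ^ 2) * (∑ r : Fin 3, b r p.2 * (b r p'.2) ^ 2) := by
  classical
  simp only [Matrix.mulVec_single_one, Matrix.col_apply, Matrix.kroneckerMap_apply]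
  rw [Fintype.sum_prod_type, Finset.sum_mul_sum]
  refine Finset.sum_congr rfl fun r1 _ => Finset.sum_congr rfl fun r2 _ => ?_
  ring

/-- GUOUT: an isometry which is a tensor product is a tensor product of two unitary matrices. -/
theorem GUOUT (hF : Fintype.card F = q ^ 2) (hq : q = 2) (e : Fin n ≃ Fin 3 × Fin 3)
    (P' : GL (Fin n) F) (c : F) (hc : c ≠ 0) (hstd : StdF q e P' c) (g : GL (Fin n) F)
    (hg : g ∈ Cfsg.GU n F q) (hT : g ∈ tensorProductSubgroup 3 3 e P') :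
    ∃ a b : GL (Fin 3) F, a.1 ∈ bU F q ∧ b.1 ∈ bU F q ∧ g.1 = tmat e P' a.1 b.1 := by
  classical
  subst hq
  have hF4 : Fintype.card F = 4 := by rw [hF]; norm_num
  obtain ⟨a, b, hgab⟩ := (mem_tensorProductSubgroup_iff e P' g).1 hT
  have hkey : ∀ p p' : Fin 3 × Fin 3,
      (∑ r : Fin 3, a.1 r p.1 * (a.1 r p'.1) ^ 2) * (∑ r : Fin 3, b.1 r p.2 * (b.1 r p'.2) ^ 2) =
        if p = p' then 1 else 0 := by
    intro p p'
    have h1 : Cfsg.hermForm n F 2
        (g.1 *ᵥ (P'.1 *ᵥ ((Pi.single p 1 : Fin 3 × Fin 3 → F) ∘ e)))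
        (g.1 *ᵥ (P'.1 *ᵥ ((Pi.single p' 1 : Fin 3 × Fin 3 → F) ∘ e))) =
        Cfsg.hermForm n F 2 (P'.1 *ᵥ ((Pi.single p 1 : Fin 3 × Fin 3 → F) ∘ e))
          (P'.1 *ᵥ ((Pi.single p' 1 : Fin 3 × Fin 3 → F) ∘ e)) := hg _ _
    rw [hgab, GUOUT_tmat_mulVec, GUOUT_tmat_mulVec, hstd, hstd] at h1
    have h2 := mul_left_cancel₀ hc h1
    rw [GUOUT_kron, GUOUT_single] at h2
    exact h2
  have hkey' : ∀ i j k l : Fin 3,
      (∑ r : Fin 3, a.1 r i * (a.1 r j) ^ 2) * (∑ r : Fin 3, b.1 r k * (b.1 r l) ^ 2) =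
        if (i, k) = (j, l) then 1 else 0 := fun i j k l => hkey (i, k) (j, l)
  have h00 : (∑ r : Fin 3, a.1 r 0 * (a.1 r 0) ^ 2) * (∑ r : Fin 3, b.1 r 0 * (b.1 r 0) ^ 2) = 1 := by
    have h := hkey' 0 0 0 0
    rw [if_pos rfl] at h
    exact h
  have hx3 : ∀ x : F, x ^ 3 = 0 ∨ x ^ 3 = 1 := by
    intro x
    by_cases hx : x = 0
    · left
      rw [hx]
      simp
    · right
      have h := FiniteField.pow_card_sub_one_eq_one x hx
      rw [hF4] at h
      exact h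
  have h2 : (2 : F) = 0 := by
    have h := Nat.cast_card_eq_zero F
    rw [hF4] at h
    have h4 : (2 : F) * 2 = 0 := by
      have e4 : ((4 : ℕ) : F) = 2 * 2 := by norm_num
      rw [← e4]
      exact h
    exact mul_self_eq_zero.mp h4
  have hA00 : (∑ r : Fin 3, a.1 r 0 * (a.1 r 0) ^ 2) =
      (a.1 0 0) ^ 3 + (a.1 1 0) ^ 3 + (a.1 2 0) ^ 3 := by
    rw [Fin.sum_univ_three]
    ring
  have hA1 : (∑ r : Fin 3, a.1 r 0 * (a.1 r 0) ^ 2) = 1 := by
    have hne : (∑ r : Fin 3, a.1 r 0 * (a.1 r 0) ^ 2) ≠ 0 := left_ne_zero_of_mul_eq_one h00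
    rw [hA00] at hne ⊢
    rcases hx3 (a.1 0 0) with h | h <;> rcases hx3 (a.1 1 0) with h' | h' <;>
      rcases hx3 (a.1 2 0) with h'' | h'' <;> rw [h, h', h''] at hne ⊢ <;>
      first
        | ring1
        | linear_combination h2
        | (exfalso; apply hne; ring1)
        | (exfalso; apply hne; linear_combination h2)
  have hB1 : (∑ r : Fin 3, b.1 r 0 * (b.1 r 0) ^ 2) = 1 := by
    rw [hA1, one_mul] at h00
    exact h00
  refine ⟨a, b, ?_, ?_, hgab⟩
  · show a.1ᵀ * a.1.map (fun x : F => x ^ 2) = 1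
    ext i j
    rw [Matrix.mul_apply, Matrix.one_apply]
    simp only [Matrix.transpose_apply, Matrix.map_apply]
    have h := hkey' i j 0 0
    rw [hB1, mul_one] at h
    rw [h]
    by_cases hij : i = j
    · simp [hij]
    · simp [hij]
  · show b.1ᵀ * b.1.map (fun x : F => x ^ 2) = 1
    ext k l
    rw [Matrix.mul_apply, Matrix.one_apply]
    simp only [Matrix.transpose_apply, Matrix.map_apply]
    have h := hkey' 0 0 k l
    rw [hA1, one_mul] at h
    rw [h]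
    by_cases hkl : k = l
    · simp [hkl]
    · simp [hkl]

end Cfsg.Agent.Lib.Helper44.BAD
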