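import Mathlib
import Cfsg.Prelude.Def_Blocks
import Cfsg.Agent.Lib.Helper79.Blk5

/-!
# A real `2`-block of full defect is the principal block
-/

set_option autoImplicit false

namespace Cfsg.Agent.Lib.Helper79

open Cfsg Cfsg.Agent.Lib.Helper4 Cfsg.Agent.Lib.Helper21 Cfsg.Agent.Lib.Helper22
open scoped ComplexConjugate

section RealBlock

variable {G : Type*} [Group G] [Fintype G] {M : Ideal AlgInt}

theorem classFunction_eq_of_isConj {θ : G → ℂ} (hθ : IsClassFunction G θ) {g g' : G}
    (h : IsConj g g') : θ g = θ g' := by
  obtain ⟨k, hk⟩ := isConj_iff.1 h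
  rw [← hk, hθ g k]

open scoped Classical in
/-- A real `2`-block of full defect contains the principal character. -/
theorem real_two_block_full_defect (hM : IsPModular 2 M) (B : Set (IrrCharacter G))
    (hB : IsPBlock M B) (hdef : blockDefect 2 B = (Nat.card G).factorization 2)
    (hreal : ∀ χ, irrConj χ ∈ B ↔ χ ∈ B) : Cfsg.Agent.Lib.Helper83.trivIrr G ∈ B := by
  by_contra hτ
  obtain ⟨χ₀, hχ₀, hdeg, -⟩ := exists_height_zero hM B hB
  rw [hdef] at hdeg
  have hpos := (Cfsg.Agent.Lib.Helper83.irr_degree χ₀.2).1
  have hχ1 := (Cfsg.Agent.Lib.Helper83.irr_degree χ₀.2).2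
  have hodd' : ¬ 2 ∣ charDegree (χ₀ : G → ℂ) := by
    intro hdvd
    have h1 := Nat.Prime.factorization_pos_of_dvd Nat.prime_two hpos.ne' hdvd
    omega
  have h1 := block_class_sum B χ₀
  rw [if_pos hχ₀] at h1
  have h0 := block_class_sum B (Cfsg.Agent.Lib.Helper83.trivIrr G)
  rw [if_neg hτ] at h0
  have hsame : ∀ g : G, MemLocalIdeal M
      (centralChar (irrConj χ₀ : G → ℂ) g - centralChar (χ₀ : G → ℂ) g) := by
    intro g
    have h2 : irrConj χ₀ ∈ blockOf M (χ₀ : G → ℂ) := by
      rw [← blockOf_eq_of_mem hM hB hχ₀]
      exact (hreal χ₀).2 hχ₀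
    have h3 := locIdeal_neg (h2 g)
    rwa [neg_sub] at h3
  have hτinv : ∀ g : G, centralChar (Cfsg.Agent.Lib.Helper83.trivIrr G : G → ℂ) g⁻¹
      = centralChar (Cfsg.Agent.Lib.Helper83.trivIrr G : G → ℂ) g := by
    intro g
    unfold centralChar
    rw [centralizer_singleton_inv]
    simp only [Cfsg.Agent.Lib.Helper83.trivIrr_apply]
  have hτcf : IsClassFunction G (Cfsg.Agent.Lib.Helper83.trivIrr G : G → ℂ) :=
    isClassFunction_irr _
  have hχcf : IsClassFunction G (χ₀ : G → ℂ) := isClassFunction_irr _
  have hsum : ∑ c : ConjClasses G, blockCoeff B (Quotient.out c) *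
      (centralChar (χ₀ : G → ℂ) (Quotient.out c) -
        centralChar (Cfsg.Agent.Lib.Helper83.trivIrr G : G → ℂ) (Quotient.out c)) = 1 := by
    simp only [mul_sub, Finset.sum_sub_distrib, h1, h0, sub_zero]
  have hout : ∀ x : G, IsConj (Quotient.out (ConjClasses.mk x)) x := by
    intro x
    rw [← ConjClasses.mk_eq_mk_iff_isConj, ← ConjClasses.quotient_mk_eq_mk]
    exact Quotient.out_eq _
  have hmk : ∀ c : ConjClasses G, ConjClasses.mk (Quotient.out c) = c := by
    intro c
    rw [← ConjClasses.quotient_mk_eq_mk]
    exact Quotient.out_eq c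
  have hmem : MemLocalIdeal M (∑ c : ConjClasses G, blockCoeff B (Quotient.out c) *
      (centralChar (χ₀ : G → ℂ) (Quotient.out c) -
        centralChar (Cfsg.Agent.Lib.Helper83.trivIrr G : G → ℂ) (Quotient.out c))) := by
    rw [← mem_locIdealAddSubgroup hM]
    apply sum_mem_of_involution (locIdealAddSubgroup hM) Finset.univ _
      (fun c : ConjClasses G => ConjClasses.mk (Quotient.out c)⁻¹)
    · intro a _
      exact Finset.mem_univ _
    · intro c _
      have h2 : IsConj (Quotient.out (ConjClasses.mk (Quotient.out c)⁻¹))⁻¹ (Quotient.out c) := by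
        have h3 := isConj_inv_of_isConj (hout (Quotient.out c)⁻¹)
        rwa [inv_inv] at h3
      show ConjClasses.mk (Quotient.out (ConjClasses.mk (Quotient.out c)⁻¹))⁻¹ = c
      rw [ConjClasses.mk_eq_mk_iff_isConj.2 h2]
      exact hmk c
    · intro c _
      rw [mem_locIdealAddSubgroup]
      have hc := hout (Quotient.out c)⁻¹
      rw [classFunction_eq_of_isConj (blockCoeff_isClassFunction B) hc, blockCoeff_inv B hreal,
        centralChar_eq_of_isConj _ hχcf hc, centralChar_eq_of_isConj _ hτcf hc, centralChar_inv,
        hτinv]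
      have h4 : blockCoeff B (Quotient.out c) *
          (centralChar (χ₀ : G → ℂ) (Quotient.out c) -
            centralChar (Cfsg.Agent.Lib.Helper83.trivIrr G : G → ℂ) (Quotient.out c)) +
          blockCoeff B (Quotient.out c) *
          (centralChar (irrConj χ₀ : G → ℂ) (Quotient.out c) -
            centralChar (Cfsg.Agent.Lib.Helper83.trivIrr G : G → ℂ) (Quotient.out c))
          = blockCoeff B (Quotient.out c) *
            (((2 : ℕ) : ℂ) * (centralChar (χ₀ : G → ℂ) (Quotient.out c) -
              centralChar (Cfsg.Agent.Lib.Helper83.trivIrr G : G → ℂ) (Quotient.out c)) +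
            (centralChar (irrConj χ₀ : G → ℂ) (Quotient.out c) -
              centralChar (χ₀ : G → ℂ) (Quotient.out c))) := by
        push_cast
        ring
      rw [h4]
      apply locIdeal_mul_left hM (osima hM B hB _)
      apply locIdeal_add hM _ (hsame _)
      apply locIdeal_mul_right hM ((locIdeal_natCast_iff hM 2).2 dvd_rfl)
      exact locRing_sub hM (centralChar_locRing hM χ₀ _) (centralChar_locRing hM _ _)
    · intro c _ hfix
      rw [mem_locIdealAddSubgroup]
      have hrealc : IsConj (Quotient.out c) (Quotient.out c)⁻¹ := by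
        rw [← ConjClasses.mk_eq_mk_iff_isConj, hfix, hmk]
      by_cases hg1 : Quotient.out c = 1
      · have h5 : centralChar (χ₀ : G → ℂ) (Quotient.out c) -
            centralChar (Cfsg.Agent.Lib.Helper83.trivIrr G : G → ℂ) (Quotient.out c) = 0 := by
          rw [hg1]
          unfold centralChar
          simp only [Cfsg.Agent.Lib.Helper83.trivIrr_apply]
          rw [mul_div_assoc, div_self (irr_one_ne_zero χ₀)]
          ring
        rw [h5, mul_zero]
        exact locIdeal_zero hM
      · by_cases hsing : 2 ∣ orderOf (Quotient.out c)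
        · have h6 : blockCoeff B (Quotient.out c) = 0 := by
            by_contra hne
            exact pRegular_of_blockCoeff_ne_zero hM B hB _ hne hsing
          rw [h6, zero_mul]
          exact locIdeal_zero hM
        · have hoddg : Odd (orderOf (Quotient.out c)) := by
            rw [← Nat.not_even_iff_odd, even_iff_two_dvd]
            exact hsing
          have heven := even_index_centralizer_of_real _ hrealc hoddg hg1
          have hidx : MemLocalIdeal M
              (((Subgroup.centralizer ({Quotient.out c} : Set G)).index : ℕ) : ℂ) :=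
            (locIdeal_natCast_iff hM _).2 (even_iff_two_dvd.1 heven)
          apply locIdeal_mul_left hM (osima hM B hB _)
          apply locIdeal_sub hM
          · unfold centralChar
            rw [hχ1, div_eq_mul_inv]
            exact locIdeal_mul_right hM (locIdeal_mul_right hM hidx
              (locRing_of_isIntegral hM (irr_isIntegral χ₀ _)))
              (locRing_inv_natCast hM hodd')
          · unfold centralChar
            simp only [Cfsg.Agent.Lib.Helper83.trivIrr_apply, mul_one, div_one]
            exact hidx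
  rw [hsum] at hmem
  exact locIdeal_one_not hM hmem

end RealBlock

end Cfsg.Agent.Lib.Helper79
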