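import Mathlib
import Cfsg.Agent.Lib.Helper79.DGCore
import Cfsg.Agent.Lib.Helper80.DGSETUP
import Cfsg.Agent.Lib.Helper63.DGPOW
import Cfsg.Agent.Lib.Helper4.DGPSEC
import Cfsg.Agent.Lib.Helper80.DGBC
import Cfsg.Agent.Lib.Helper82.DGGAL1
import Cfsg.Agent.Lib.Helper88.DGGALU

/-!
# S4507 from the general Thompson lattice theorem (helper79)
-/

set_option autoImplicit false
set_option linter.style.haveILetI false
set_option maxHeartbeats 1600000

namespace Cfsg.Agent.Lib.Helper79.DG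

open Cfsg

universe u

theorem s4507_of {G : Type u} [Group G] [Finite G] (hTG : TGStmt.{u}) (p : ℕ) [Fact p.Prime] (M : Ideal Cfsg.AlgInt) (hM : Cfsg.IsPModular p M) (hdiv : p ∣ Nat.card G) (hsq : ¬ p ^ 2 ∣ Nat.card G) (B : Set (Cfsg.IrrCharacter G)) (hB : Cfsg.IsPBlock M B) (hd : 0 < Cfsg.blockDefect p B) : ∃ Y : Set (Cfsg.IrrCharacter G), Y ⊆ B ∧ Y.Nonempty ∧ (∀ θ ∈ Y, ∀ ψ : Cfsg.IrrCharacter G, (∃ σ : ℂ ≃+* ℂ, σ (Complex.exp (2 * Real.pi * Complex.I / ((Nat.card G / p ^ (Nat.card G).factorization p) : ℕ))) = Complex.exp (2 * Real.pi * Complex.I / ((Nat.card G / p ^ (Nat.card G).factorization p) : ℕ)) ∧ (ψ : G → ℂ) = fun g => σ ((θ : G → ℂ) g)) ↔ ψ ∈ Y) ∧ (∀ χ ∈ B, χ ∉ Y → ∀ ψ : Cfsg.IrrCharacter G, (∃ σ : ℂ ≃+* ℂ, σ (Complex.exp (2 * Real.pi * Complex.I / ((Nat.card G / p ^ (Nat.card G).factorization p) : ℕ))) = Complex.exp (2 * Real.pi * Complex.I / ((Nat.card G / p ^ (Nat.card G).factorization p)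 : ℕ)) ∧ (ψ : G → ℂ) = fun g => σ ((χ : G → ℂ) g)) → ψ = χ) ∧ Nat.card Y ∣ p - 1 ∧ Nat.card B = Nat.card Y + (p - 1) / Nat.card Y ∧ ∃ δ : Cfsg.IrrCharacter G → ℤ, (∀ χ ∈ B, δ χ = 1 ∨ δ χ = -1) ∧ ∀ x : G, ¬ p ∣ orderOf x → ∀ θ ∈ Y, (∑ᶠ χ ∈ B \ Y, (δ χ : ℂ) * (χ : G → ℂ) x) + (δ θ : ℂ) * (θ : G → ℂ) x = 0 := by
  classical
  letI : Fintype G := Fintype.ofFinite G
  haveI : Finite (IrrCharacter G) := Cfsg.Agent.Lib.Helper82.finite_irrCharacter G
  letI : Fintype (IrrCharacter G) := Fintype.ofFinite _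
  have hp := (Fact.out : p.Prime)
  haveI : NeZero p := ⟨hp.ne_zero⟩
  obtain ⟨P, b, θ, T, hP, hBP, hind, hθ, hθP, hT⟩ :=
    Cfsg.Agent.Lib.Helper80.DG.exists_setup p M hM hdiv hsq B hB hd
  obtain ⟨z, hz, hz1⟩ : ∃ z : G, z ∈ (P : Subgroup G) ∧ z ≠ 1 := by
    have : Nontrivial (P : Subgroup G) := by
      rw [← Finite.one_lt_card_iff_nontrivial, hP]; exact hp.one_lt
    obtain ⟨⟨x, hx⟩, hne⟩ := exists_ne (1 : (P : Subgroup G))
    exact ⟨x, hx, fun h => hne (Subtype.ext h)⟩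
  obtain ⟨ζ, hζ⟩ : ∃ ζ : ℂ, IsPrimitiveRoot ζ p :=
    ⟨_, Complex.isPrimitiveRoot_exp p hp.ne_zero⟩
  obtain ⟨X, Y, hXY, hdisj, hcX, hcY, hdvd, he1, εX, ε, D, κ, v, hXp, hε, hYdeg, hagree,
    hformula, hκ, hD, Hsmt, hTR⟩ :=
    core_gen hTG p M hM P hP B hB hBP b hind θ hθ hθP T hT _ rfl z hz hz1 ζ hζ
  obtain ⟨e, hedef⟩ : ∃ e : ℕ, e = (Subgroup.centralizer ((P : Subgroup G) : Set G)).relIndex T :=
    ⟨_, rfl⟩
  rw [← hedef] at hcX hcY hdvd he1
  have hT0 : (Nat.card T : ℂ) ≠ 0 := by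
    exact_mod_cast (Nat.card_pos (α := T)).ne'
  have hκ0 : ∀ n ∈ Subgroup.normalizer ((P : Subgroup G) : Set G), κ n ≠ 0 :=
    fun n hn => kappa_ne_zero p z hz1 n _ (hκ n hn)
  have hXB : X ⊆ B := by rw [hXY]; exact Set.subset_union_left
  have hYB : Y ⊆ B := by rw [hXY]; exact Set.subset_union_right
  have hp1 : 1 ≤ p - 1 := by have := hp.two_le; omega
  -- equality of values on a p-section from equality of generalized decomposition numbers
  have hVALEQ : ∀ χ ∈ B, ∀ χ' ∈ B, ∀ t t' : ZMod p, t ≠ 0 → t' ≠ 0 →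
      (∀ n ∈ Subgroup.normalizer ((P : Subgroup G) : Set G), D (κ n * t') χ' = D (κ n * t) χ) →
      ∀ s : Subgroup.centralizer ((P : Subgroup G) : Set G), ¬ p ∣ orderOf s →
        χ'.1 (z ^ t'.val * (s : G)) = χ.1 (z ^ t.val * (s : G)) := by
    intro χ hχ χ' hχ' t t' ht ht' h s hs
    apply mul_left_cancel₀ hT0
    rw [Hsmt χ' hχ' t' ht' s hs, Hsmt χ hχ t ht s hs]
    refine Finset.sum_congr rfl fun n _ => ?_
    by_cases hn : n ∈ Subgroup.normalizer ((P : Subgroup G) : Set G)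
    · rw [if_pos hn, if_pos hn, h n hn]
    · rw [if_neg hn, if_neg hn]
  -- evaluation at powers
  have hEVAL : ∀ χ ∈ B, ∀ χ' ∈ B, ∀ k : ℕ, k.Coprime (Nat.card G) →
      k ≡ 1 [MOD Nat.card G / p ^ (Nat.card G).factorization p] →
      (∀ g : G, ¬ p ∣ orderOf g → χ.1 g = χ'.1 g) →
      (∀ t : ZMod p, t ≠ 0 → D ((k : ZMod p) * t) χ = D t χ') →
      ∀ g : G, χ.1 (g ^ k) = χ'.1 g := by
    intro χ hχ χ' hχ' k hkc hk1 hreg hDk g
    obtain ⟨hpow1, hpow2⟩ := Cfsg.Agent.Lib.Helper63.DG.pow_facts p P hP z hz hz1 k hk1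
    have hkp : (k : ZMod p) ≠ 0 := by
      intro h0
      have h1 : p ∣ k := (ZMod.natCast_eq_zero_iff k p).1 h0
      have h2 : p ∣ Nat.gcd k (Nat.card G) := Nat.dvd_gcd h1 hdiv
      rw [hkc] at h2
      exact hp.one_lt.ne' (Nat.dvd_one.1 h2)
    by_cases hg : p ∣ orderOf g
    · obtain ⟨h, t, s, ht, hs, rfl⟩ :=
        Cfsg.Agent.Lib.Helper4.DG.exists_psection p P hP z hz hz1 g hg
      rw [conj_pow, hpow2 t s hs, Cfsg.Agent.Lib.Helper82.irr_isClassFunction χ _ h,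
        Cfsg.Agent.Lib.Helper82.irr_isClassFunction χ' _ h]
      refine hVALEQ χ' hχ' χ hχ t (t * (k : ZMod p)) ht (mul_ne_zero ht hkp) ?_ s hs
      intro n hn
      have h1 : κ n * (t * (k : ZMod p)) = (k : ZMod p) * (κ n * t) := by ring
      rw [h1]
      exact hDk _ (mul_ne_zero (hκ0 n hn) ht)
    · rw [hpow1 g hg]
      exact hreg g hg
  -- members of X are p-rational
  have hPR : ∀ χ ∈ X, ∀ k : ℕ, k.Coprime (Nat.card G) →
      k ≡ 1 [MOD Nat.card G / p ^ (Nat.card G).factorization p] →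
      ∀ g : G, χ.1 (g ^ k) = χ.1 g := by
    intro χ hχ k hkc hk1 g
    have hkp : (k : ZMod p) ≠ 0 := by
      intro h0
      have h1 : p ∣ k := (ZMod.natCast_eq_zero_iff k p).1 h0
      have h2 : p ∣ Nat.gcd k (Nat.card G) := Nat.dvd_gcd h1 hdiv
      rw [hkc] at h2
      exact hp.one_lt.ne' (Nat.dvd_one.1 h2)
    refine hEVAL χ (hXB hχ) χ (hXB hχ) k hkc hk1 (fun _ _ => rfl) ?_ g
    intro t ht
    rw [(hXp χ hχ).2.2 t ht, (hXp χ hχ).2.2 _ (mul_ne_zero hkp ht)]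
  have hnotXY : ∀ χ, χ ∈ X → χ ∈ Y → False := fun χ h1 h2 =>
    (Set.disjoint_left.mp hdisj) h1 h2
  refine ⟨Y, hYB, ?_, ?_, ?_, ?_, ?_, fun χ => if χ ∈ Y then ε else -(εX χ), ?_, ?_⟩
  · -- nonempty
    by_contra hne
    rw [Set.not_nonempty_iff_eq_empty] at hne
    rw [hne] at hcY
    have h1 : 0 < (p - 1) / e := Nat.div_pos (Nat.le_of_dvd (by omega) hdvd) (by omega)
    rw [← hcY] at h1
    simp at h1
  · -- the orbit
    intro θ' hθ' ψ
    constructor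
    · rintro ⟨σ, hσ, hψ⟩
      obtain ⟨k, hkc, hk1, hkσ⟩ := Cfsg.Agent.Lib.Helper82.DG.galois_pow p σ hσ
      obtain ⟨hpow1, -⟩ := Cfsg.Agent.Lib.Helper63.DG.pow_facts p P hP z hz hz1 k hk1
      have hψreg : ∀ g : G, ¬ p ∣ orderOf g → ψ.1 g = θ'.1 g := by
        intro g hg
        rw [hψ]
        show σ (θ'.1 g) = θ'.1 g
        rw [hkσ θ' g, hpow1 g hg]
      have hψB : ψ ∈ B :=
        Cfsg.Agent.Lib.Helper80.DG.mem_block_of_agree_reg p M hM B hB θ' ψ (hYB hθ') hψreg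
      rw [hXY] at hψB
      rcases hψB with hψX | hψY
      · exfalso
        have hσ' : σ.symm (Complex.exp (2 * Real.pi * Complex.I /
            ((Nat.card G / p ^ (Nat.card G).factorization p : ℕ) : ℂ))) =
            Complex.exp (2 * Real.pi * Complex.I /
              ((Nat.card G / p ^ (Nat.card G).factorization p : ℕ) : ℂ)) := by
          rw [RingEquiv.symm_apply_eq]
          exact hσ.symm
        obtain ⟨k', hk'c, hk'1, hk'σ⟩ := Cfsg.Agent.Lib.Helper82.DG.galois_pow p σ.symm hσ'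
        have h1 : θ' = ψ := by
          apply Subtype.ext
          funext g
          have h2 : θ'.1 g = σ.symm (ψ.1 g) := by
            rw [hψ]
            exact (RingEquiv.symm_apply_apply σ _).symm
          rw [h2, hk'σ ψ g]
          exact hPR ψ hψX k' hk'c hk'1 g
        rw [h1] at hθ'
        exact hnotXY ψ hψX hθ'
      · exact hψY
    · intro hψY
      obtain ⟨k₀, hk₀⟩ := hTR θ' hθ' ψ hψY
      obtain ⟨σ, k, hσ, hkk₀, hkc, hk1, hkσ⟩ :=
        Cfsg.Agent.Lib.Helper88.DG.exists_galois_unit (G := G) p hdiv hsq k₀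
      refine ⟨σ, hσ, ?_⟩
      funext g
      show ψ.1 g = σ (θ'.1 g)
      rw [hkσ θ' g]
      refine (hEVAL θ' (hYB hθ') ψ (hYB hψY) k hkc hk1
        (fun g hg => hagree θ' hθ' ψ hψY g hg) ?_ g).symm
      intro t ht
      rw [hkk₀]
      exact hk₀ t ht
  · -- p-rational characters
    intro χ hχB hχY ψ hψ
    obtain ⟨σ, hσ, hψ⟩ := hψ
    have hχX : χ ∈ X := by
      rw [hXY] at hχB
      rcases hχB with h | h
      · exact h
      · exact absurd h hχY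
    obtain ⟨k, hkc, hk1, hkσ⟩ := Cfsg.Agent.Lib.Helper82.DG.galois_pow p σ hσ
    apply Subtype.ext
    funext g
    rw [hψ]
    show σ (χ.1 g) = χ.1 g
    rw [hkσ χ g]
    exact hPR χ hχX k hkc hk1 g
  · rw [hcY]
    exact Nat.div_dvd_of_dvd hdvd
  · rw [hcY, Nat.div_div_self hdvd (by omega), hXY, Nat.card_coe_set_eq,
      Set.ncard_union_eq hdisj (Set.toFinite _) (Set.toFinite _),
      ← Nat.card_coe_set_eq, ← Nat.card_coe_set_eq, hcX, hcY, add_comm]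
  · intro χ hχB
    dsimp only
    by_cases hχY : χ ∈ Y
    · rw [if_pos hχY]; exact hε
    · rw [if_neg hχY]
      have hχX : χ ∈ X := by
        rw [hXY] at hχB
        rcases hχB with h | h
        · exact h
        · exact absurd h hχY
      rcases (hXp χ hχX).1 with h | h
      · right; rw [h]
      · left; rw [h]; norm_num
  · intro x hx θ' hθ'
    dsimp only
    have hBY : B \ Y = X := by
      ext χ
      rw [hXY]
      constructor
      · rintro ⟨h1 | h1, h2⟩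
        · exact h1
        · exact absurd h1 h2
      · intro h
        exact ⟨Or.inl h, fun h2 => hnotXY χ h h2⟩
    rw [hBY, if_pos hθ', hformula θ' hθ' x hx,
      Cfsg.Agent.Lib.Helper22.DOne.finsum_mem_eq_sum_ite X,
      Cfsg.Agent.Lib.Helper22.DOne.finsum_mem_eq_sum_ite X, ← Finset.sum_add_distrib]
    refine Finset.sum_eq_zero fun χ _ => ?_
    by_cases hχX : χ ∈ X
    · rw [if_pos hχX, if_pos hχX, if_neg (fun h => hnotXY χ hχX h)]
      push_cast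
      ring
    · rw [if_neg hχX, if_neg hχX, add_zero]

end Cfsg.Agent.Lib.Helper79.DG
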