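import Mathlib
import Cfsg.Prelude.Def_Blocks
import Cfsg.Agent.S0914
import Cfsg.Agent.S0907
import Cfsg.Agent.Lib.Helper82.PQ
import Cfsg.Agent.Lib.Helper83.Codeg

/-!
# Characters of `p`-defect zero vanish on `p`-singular elements; square roots of elements of
odd order
-/

set_option autoImplicit false

namespace Cfsg.Agent.Lib.Helper79

open Cfsg
open scoped ComplexConjugate

/-- An irreducible character whose degree is divisible by the full power of `p` dividing the
group order vanishes on the `p`-singular elements. -/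
theorem irr_eq_zero_of_defect_zero {G : Type*} [Group G] [Finite G] (p : ℕ) [Fact p.Prime]
    (χ : IrrCharacter G) (h : p ^ (Nat.card G).factorization p ∣ charDegree (χ : G → ℂ))
    (y : G) (hy : p ∣ orderOf y) : (χ : G → ℂ) y = 0 := by
  have hp : p.Prime := Fact.out
  obtain ⟨M, hM⟩ := Cfsg.Agent.Lib.Helper82.exists_isPModular p
  have hdvd := Cfsg.Agent.Lib.Helper83.irr_degree_dvd_card χ
  have hpos := (Cfsg.Agent.Lib.Helper83.irr_degree χ.2).1
  have hnd : ¬ p ∣ Nat.card G / charDegree (χ : G → ℂ) := by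
    intro hdiv
    have h1 : charDegree (χ : G → ℂ) * p ∣ Nat.card G := Nat.mul_dvd_of_dvd_div hdvd hdiv
    have h2 : p ^ ((Nat.card G).factorization p + 1) ∣ Nat.card G := by
      rw [pow_succ]
      exact (Nat.mul_dvd_mul_right h p).trans h1
    exact Nat.pow_succ_factorization_not_dvd Nat.card_pos.ne' hp h2
  have hB := (Cfsg.Agent.S0914.result p M hM χ).1 hnd
  have h0 := Cfsg.Agent.S0907.result p M hM (blockOf M (χ : G → ℂ)) ⟨χ, rfl⟩ 1 y
    (by rw [orderOf_one]; exact hp.not_dvd_one) hy
  rw [hB, finsum_mem_singleton] at h0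
  rcases mul_eq_zero.1 h0 with h3 | h3
  · exact absurd h3 (Cfsg.Agent.Lib.Helper83.irr_one_ne_zero χ.2)
  · simpa using h3

/-- An element of odd order that commutes with no involution has a unique square root. -/
theorem sqrt_unique_of_odd {G : Type*} [Group G] [Finite G] (h : G) (hodd : Odd (orderOf h))
    (hnoinv : ∀ s : G, orderOf s = 2 → ¬ Commute s h) (g : G) :
    g * g = h ↔ g = h ^ ((orderOf h + 1) / 2) := by
  obtain ⟨m, hm⟩ := hodd
  have hhalf : (orderOf h + 1) / 2 = m + 1 := by omega
  rw [hhalf]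
  constructor
  · intro hg
    have hcomm : Commute g h := by
      rw [← hg]
      exact (Commute.refl g).mul_right (Commute.refl g)
    have hgodd : ¬ 2 ∣ orderOf g := by
      intro h2
      have h3 : orderOf (g ^ (orderOf g / 2)) = 2 :=
        orderOf_pow_orderOf_div (orderOf_pos g).ne' h2
      exact hnoinv _ h3 (hcomm.pow_left _)
    have hpow : g ^ (2 * orderOf h) = 1 := by
      rw [pow_mul, pow_two, hg, pow_orderOf_eq_one]
    have hdvd : orderOf g ∣ 2 * orderOf h := orderOf_dvd_of_pow_eq_one hpow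
    have hcop : Nat.Coprime (orderOf g) 2 := by
      rw [Nat.coprime_comm, Nat.Prime.coprime_iff_not_dvd Nat.prime_two]
      exact hgodd
    have hdvd' : orderOf g ∣ orderOf h := hcop.dvd_of_dvd_mul_left hdvd
    have hgm : g ^ orderOf h = 1 := orderOf_dvd_iff_pow_eq_one.1 hdvd'
    have h4 : h ^ (m + 1) = g ^ (orderOf h + 1) := by
      have h6 : h ^ (m + 1) = (g * g) ^ (m + 1) := by rw [hg]
      rw [h6, ← pow_two, ← pow_mul]
      congr 1
      omega
    rw [h4, pow_succ, hgm, one_mul]
  · intro hg
    rw [hg, ← pow_add]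
    have h5 : m + 1 + (m + 1) = orderOf h + 1 := by omega
    rw [h5, pow_succ, pow_orderOf_eq_one, one_mul]

end Cfsg.Agent.Lib.Helper79
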