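import Mathlib
import Cfsg.Agent.S0924
import Cfsg.Agent.S0912
import Cfsg.Agent.S4733
import Cfsg.Agent.Lib.Helper81.CentralDefect
import Cfsg.Agent.Lib.Helper81.RelDefect
import Cfsg.Agent.Lib.Helper79.DefZero
import Cfsg.Agent.Lib.Helper79.Prin2
import Cfsg.Agent.Lib.Helper82.Major
import Cfsg.Agent.Lib.Helper55.Basic

/-!
# Blocks with a normal defect group `D` such that `G = D · C_G(D)` (helper79), part 1

Two-point sums over the block, proportionality on `p`-regular elements, the canonical character.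
-/

set_option autoImplicit false

namespace Cfsg.Agent.Lib.Helper79

open Cfsg Cfsg.Agent.Lib.Helper4 Cfsg.Agent.Lib.Helper21 Cfsg.Agent.Lib.Helper22
  Cfsg.Agent.Lib.Helper81
open scoped ComplexConjugate

section

variable {G : Type*} [Group G] [Fintype G] {p : ℕ} [Fact p.Prime] {M : Ideal AlgInt}

omit [Fintype G] [Fact p.Prime] in
/-- An irreducible character is invariant under translation by elements of a normal subgroup in
its kernel. -/
theorem irr_mul_ker [Finite G] (θ : IrrCharacter G) (N : Subgroup G) [N.Normal]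
    (hN : ∀ u ∈ N, (θ : G → ℂ) u = (θ : G → ℂ) 1) (g u : G) (hu : u ∈ N) :
    (θ : G → ℂ) (g * u) = (θ : G → ℂ) g := by
  obtain ⟨ψ, rfl⟩ := Cfsg.Agent.Lib.Helper83.exists_inflate_eq N θ hN
  rw [Cfsg.Agent.Lib.Helper83.inflate_apply, Cfsg.Agent.Lib.Helper83.inflate_apply]
  exact congrArg _ (QuotientGroup.mk_mul_of_mem g hu)

open scoped Classical in
/-- Two-point sum over a block, for a normal `p`-subgroup `D` centralized by the `p`-regular
element `x'`. -/
theorem block_two_point_normal [Fintype (IrrCharacter G)] (hM : IsPModular p M)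
    (B : Set (IrrCharacter G)) (hB : IsPBlock M B) (D : Subgroup G) [D.Normal]
    (hDp : IsPGroup p D) (x x' : G) (hx : ¬ p ∣ orderOf x) (hx' : ¬ p ∣ orderOf x')
    (hx'C : x' ∈ Subgroup.centralizer (D : Set G)) :
    ∑ θ : IrrCharacter G, (if θ ∈ B then (θ : G → ℂ) x * conj ((θ : G → ℂ) x') else 0) =
      (Nat.card D : ℂ) * ∑ θ : IrrCharacter G,
        (if θ ∈ B ∧ (∀ u ∈ D, (θ : G → ℂ) u = (θ : G → ℂ) 1) then
          (θ : G → ℂ) x * conj ((θ : G → ℂ) x') else 0) := by
  have h1 : ∑ z : D, ∑ θ : IrrCharacter G,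
      (if θ ∈ B then (θ : G → ℂ) x * conj ((θ : G → ℂ) (x' * (z : G))) else 0) =
      ∑ θ : IrrCharacter G, (if θ ∈ B then (θ : G → ℂ) x * conj ((θ : G → ℂ) x') else 0) := by
    rw [Finset.sum_eq_single (1 : D)]
    · simp
    · intro z _ hz
      refine weak_orth_sum hM B hB x (x' * (z : G)) hx ?_
      have hcomm : Commute (z : G) x' :=
        (Subgroup.mem_centralizer_iff.mp hx'C (z : G) z.2)
      obtain ⟨k, hk⟩ := hDp z
      have hk' : (z : G) ^ (p ^ k) = 1 := by
        have := congrArg Subtype.val hk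
        simpa using this
      have h2 := singular_of_ppart_ne_one p (z : G) x' hcomm
        (fun h => hz (Subtype.ext h)) k hk' hx'
      rwa [hcomm.eq] at h2
    · intro h
      exact absurd (Finset.mem_univ _) h
  rw [← h1, Finset.sum_comm, Finset.mul_sum]
  refine Finset.sum_congr rfl fun θ _ => ?_
  by_cases hθ : θ ∈ B
  · simp only [hθ, if_true, true_and]
    rw [← Finset.mul_sum, ← map_sum]
    by_cases hker : ∀ u ∈ D, (θ : G → ℂ) u = (θ : G → ℂ) 1
    · rw [if_pos hker]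
      have h4 : ∑ z : D, (θ : G → ℂ) (x' * (z : G)) = (Nat.card D : ℂ) * (θ : G → ℂ) x' := by
        rw [Finset.sum_congr rfl (fun (z : D) _ => irr_mul_ker θ D hker x' (z : G) z.2),
          Finset.sum_const, Finset.card_univ, nsmul_eq_mul, Nat.card_eq_fintype_card]
      rw [h4, map_mul, map_natCast]
      ring
    · rw [if_neg hker]
      push Not at hker
      obtain ⟨u, huD, hu⟩ := hker
      have h4 := Cfsg.Agent.Lib.Helper83.irr_sum_normal_eq_zero D θ.2 u huD hu x'
      rw [h4, map_zero, mul_zero, mul_zero]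
  · simp [hθ]

open scoped Classical in
/-- If `χ` is the only member of the block with `D` in its kernel, the two-point sum is
`|D| χ(x) conj χ(x')`. -/
theorem block_two_point_normal' [Fintype (IrrCharacter G)] (hM : IsPModular p M)
    (B : Set (IrrCharacter G)) (hB : IsPBlock M B) (D : Subgroup G) [D.Normal]
    (hDp : IsPGroup p D) (χ : IrrCharacter G) (hχ : χ ∈ B)
    (hχD : ∀ u ∈ D, (χ : G → ℂ) u = (χ : G → ℂ) 1)
    (huniq : ∀ θ ∈ B, (∀ u ∈ D, (θ : G → ℂ) u = (θ : G → ℂ) 1) → θ = χ)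
    (x x' : G) (hx : ¬ p ∣ orderOf x) (hx' : ¬ p ∣ orderOf x')
    (hx'C : x' ∈ Subgroup.centralizer (D : Set G)) :
    ∑ θ : IrrCharacter G, (if θ ∈ B then (θ : G → ℂ) x * conj ((θ : G → ℂ) x') else 0) =
      (Nat.card D : ℂ) * ((χ : G → ℂ) x * conj ((χ : G → ℂ) x')) := by
  rw [block_two_point_normal hM B hB D hDp x x' hx hx' hx'C]
  congr 1
  rw [Finset.sum_eq_single χ]
  · rw [if_pos ⟨hχ, hχD⟩]
  · intro θ _ hne
    rw [if_neg]
    rintro ⟨h1, h2⟩
    exact hne (huniq θ h1 h2)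
  · intro h
    exact absurd (Finset.mem_univ _) h

/-- Proportionality on `p`-regular elements: every member of the block is, on `p`-regular
elements, a multiple of the canonical character. -/
theorem block_prop_regular (hM : IsPModular p M)
    (B : Set (IrrCharacter G)) (hB : IsPBlock M B) (D : Subgroup G) [D.Normal]
    (hDp : IsPGroup p D) (χ : IrrCharacter G) (hχ : χ ∈ B)
    (hχD : ∀ u ∈ D, (χ : G → ℂ) u = (χ : G → ℂ) 1)
    (huniq : ∀ θ ∈ B, (∀ u ∈ D, (θ : G → ℂ) u = (θ : G → ℂ) 1) → θ = χ)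
    (hreg : ∀ x : G, ¬ p ∣ orderOf x → x ∈ Subgroup.centralizer (D : Set G))
    (θ : IrrCharacter G) (hθ : θ ∈ B) (x : G) (hx : ¬ p ∣ orderOf x) :
    (θ : G → ℂ) x * (χ : G → ℂ) 1 = (θ : G → ℂ) 1 * (χ : G → ℂ) x := by
  classical
  haveI := irr_finite (G := G)
  letI := Fintype.ofFinite (IrrCharacter G)
  have hp : p.Prime := Fact.out
  have h1reg : ¬ p ∣ orderOf (1 : G) := by rw [orderOf_one]; exact hp.not_dvd_one
  have T := fun a b ha hb => block_two_point_normal' hM B hB D hDp χ hχ hχD huniq a b ha hb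
    (hreg b hb)
  have Txx := T x x hx hx
  have Tx1 := T x 1 hx h1reg
  have T1x := T 1 x h1reg hx
  have T11 := T 1 1 h1reg h1reg
  set w : IrrCharacter G → ℂ := fun ψ =>
    (ψ : G → ℂ) x * (χ : G → ℂ) 1 - (ψ : G → ℂ) 1 * (χ : G → ℂ) x with hw
  have hsum : ∑ ψ : IrrCharacter G, (if ψ ∈ B then w ψ * conj (w ψ) else 0) = 0 := by
    have hterm : ∀ ψ : IrrCharacter G, (if ψ ∈ B then w ψ * conj (w ψ) else 0) =
        (χ : G → ℂ) 1 * conj ((χ : G → ℂ) 1) *
          (if ψ ∈ B then (ψ : G → ℂ) x * conj ((ψ : G → ℂ) x) else 0) -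
        (χ : G → ℂ) 1 * conj ((χ : G → ℂ) x) *
          (if ψ ∈ B then (ψ : G → ℂ) x * conj ((ψ : G → ℂ) 1) else 0) -
        (χ : G → ℂ) x * conj ((χ : G → ℂ) 1) *
          (if ψ ∈ B then (ψ : G → ℂ) 1 * conj ((ψ : G → ℂ) x) else 0) +
        (χ : G → ℂ) x * conj ((χ : G → ℂ) x) *
          (if ψ ∈ B then (ψ : G → ℂ) 1 * conj ((ψ : G → ℂ) 1) else 0) := by
      intro ψ
      by_cases hψ : ψ ∈ B
      · simp only [hψ, if_true, hw, map_sub, map_mul]
        ring
      · simp [hψ]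
    rw [Finset.sum_congr rfl (fun ψ _ => hterm ψ), Finset.sum_add_distrib,
      Finset.sum_sub_distrib, Finset.sum_sub_distrib, ← Finset.mul_sum, ← Finset.mul_sum,
      ← Finset.mul_sum, ← Finset.mul_sum, Txx, Tx1, T1x, T11]
    ring
  have hre : ∑ ψ : IrrCharacter G, (if ψ ∈ B then Complex.normSq (w ψ) else 0) = 0 := by
    have h2 : ((∑ ψ : IrrCharacter G, (if ψ ∈ B then Complex.normSq (w ψ) else 0) : ℝ) : ℂ) =
        0 := by
      rw [← hsum, Complex.ofReal_sum]
      refine Finset.sum_congr rfl fun ψ _ => ?_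
      by_cases hψ : ψ ∈ B
      · rw [if_pos hψ, if_pos hψ, Complex.mul_conj]
      · rw [if_neg hψ, if_neg hψ, Complex.ofReal_zero]
    exact_mod_cast h2
  have h3 := (Finset.sum_eq_zero_iff_of_nonneg (fun ψ _ => by
    by_cases hψ : ψ ∈ B
    · rw [if_pos hψ]; exact Complex.normSq_nonneg _
    · rw [if_neg hψ])).mp hre θ (Finset.mem_univ θ)
  rw [if_pos hθ, Complex.normSq_eq_zero] at h3
  exact sub_eq_zero.mp h3

end

end Cfsg.Agent.Lib.Helper79
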