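import Mathlib
import Cfsg.Agent.S0943
import Cfsg.Agent.Lib.Helper20.Clifford
import Cfsg.Agent.Lib.Helper79.NormDef1

/-!
# Blocks with a normal defect group `D` such that `G = D · C_G(D)` (helper79), part 2

The canonical character, vanishing, Clifford theory for `D`, and the product formula.
-/

set_option autoImplicit false

namespace Cfsg.Agent.Lib.Helper79

open Cfsg Cfsg.Agent.Lib.Helper4 Cfsg.Agent.Lib.Helper21 Cfsg.Agent.Lib.Helper22
  Cfsg.Agent.Lib.Helper81
open scoped ComplexConjugate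

section

variable {G : Type*} [Group G] [Fintype G] {p : ℕ} [Fact p.Prime] {M : Ideal AlgInt}

/-- At most one member of a block with normal defect group `D` (with `G/C_G(D)` a `p`-group) has
`D` in its kernel. -/
theorem canonical_unique (hM : IsPModular p M) (D : Subgroup G) [D.Normal] (hDp : IsPGroup p D)
    (hC : ∃ k : ℕ, (Subgroup.centralizer (D : Set G)).index = p ^ k)
    (B : Set (IrrCharacter G)) (hB : IsPBlock M B) (hD : IsDefectGroup p M B D)
    (θ₁ θ₂ : IrrCharacter G) (h₁ : θ₁ ∈ B) (h₂ : θ₂ ∈ B)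
    (k₁ : ∀ u ∈ D, (θ₁ : G → ℂ) u = (θ₁ : G → ℂ) 1)
    (k₂ : ∀ u ∈ D, (θ₂ : G → ℂ) u = (θ₂ : G → ℂ) 1) : θ₁ = θ₂ := by
  classical
  letI : Fintype (G ⧸ D) := Fintype.ofFinite _
  obtain ⟨ψ₁, rfl⟩ := Cfsg.Agent.Lib.Helper83.exists_inflate_eq D θ₁ k₁
  obtain ⟨ψ₂, rfl⟩ := Cfsg.Agent.Lib.Helper83.exists_inflate_eq D θ₂ k₂
  have hB' := isPBlock_deflate hM D hDp hC B hB
  have hdef := blockDefect_deflate_eq_zero hM B hB D hD ⟨ψ₁, h₁⟩
  have hcard := ((Cfsg.Agent.S4733.result p M hM _ hB').2.1.mp hdef).1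
  have hsub : Subsingleton {χ : IrrCharacter (G ⧸ D) |
      Cfsg.Agent.Lib.Helper83.inflate D χ ∈ B} := (Nat.card_eq_one_iff_unique.mp hcard).1
  have h3 := congrArg Subtype.val (hsub.elim ⟨ψ₁, h₁⟩ ⟨ψ₂, h₂⟩)
  have h4 : ψ₁ = ψ₂ := h3
  rw [h4]

/-- The member of the block with `D` in its kernel has defect zero as a character of `G/D`. -/
theorem canonical_degree (hM : IsPModular p M) (D : Subgroup G) [D.Normal] (hDp : IsPGroup p D)
    (hC : ∃ k : ℕ, (Subgroup.centralizer (D : Set G)).index = p ^ k)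
    (B : Set (IrrCharacter G)) (hB : IsPBlock M B) (hD : IsDefectGroup p M B D)
    (θ : IrrCharacter G) (hθ : θ ∈ B) (k : ∀ u ∈ D, (θ : G → ℂ) u = (θ : G → ℂ) 1) :
    (charDegree (θ : G → ℂ)).factorization p = D.index.factorization p ∧
      ∀ g : G, p ∣ orderOf (g : G ⧸ D) → (θ : G → ℂ) g = 0 := by
  classical
  have hp : p.Prime := Fact.out
  letI : Fintype (G ⧸ D) := Fintype.ofFinite _
  obtain ⟨ψ, rfl⟩ := Cfsg.Agent.Lib.Helper83.exists_inflate_eq D θ k
  have hdef := blockDefect_deflate_eq_zero hM B hB D hD ⟨ψ, hθ⟩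
  have hdeg0 : charDegree (ψ : G ⧸ D → ℂ) ≠ 0 :=
    ((Cfsg.Agent.Lib.Helper83.irr_degree ψ.2).1).ne'
  have hcard0 : Nat.card (G ⧸ D) ≠ 0 := Nat.card_pos.ne'
  have hle : (Nat.card (G ⧸ D)).factorization p ≤
      (charDegree (ψ : G ⧸ D → ℂ)).factorization p := by
    unfold blockDefect at hdef
    have h1 : sInf ((fun χ : IrrCharacter (G ⧸ D) =>
      (charDegree (χ : G ⧸ D → ℂ)).factorization p) '' {χ : IrrCharacter (G ⧸ D) |
        Cfsg.Agent.Lib.Helper83.inflate D χ ∈ B}) ≤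
        (charDegree (ψ : G ⧸ D → ℂ)).factorization p := Nat.sInf_le ⟨ψ, hθ, rfl⟩
    omega
  have hdvd := Cfsg.Agent.Lib.Helper83.irr_degree_dvd_card ψ
  have hge : (charDegree (ψ : G ⧸ D → ℂ)).factorization p ≤
      (Nat.card (G ⧸ D)).factorization p :=
    (Nat.factorization_le_iff_dvd hdeg0 hcard0).mpr hdvd p
  constructor
  · rw [Cfsg.Agent.Lib.Helper83.charDegree_inflate, Subgroup.index_eq_card]
    exact le_antisymm hge hle
  · intro g hg
    rw [Cfsg.Agent.Lib.Helper83.inflate_apply]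
    exact irr_eq_zero_of_defect_zero p ψ
      ((Nat.Prime.pow_dvd_iff_le_factorization hp hdeg0).mpr hle) _ hg

/-- A normal defect group is the only defect group. -/
theorem defectGroup_eq_of_normal (hM : IsPModular p M) (B : Set (IrrCharacter G))
    (hB : IsPBlock M B) (D : Subgroup G) [hDn : D.Normal] (hDp : IsPGroup p D)
    (hD : IsDefectGroup p M B D) (D' : Subgroup G) (hD' : IsDefectGroup p M B D') : D' = D := by
  have h1 := Cfsg.Agent.S0912.result p M hM B hB D' hD'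
  have h2 : D ≤ pCore p G := Cfsg.Agent.Lib.Helper55.le_pCore hDn hDp
  have h3 := Cfsg.Agent.Lib.Helper82.card_defectGroup hM B hB D hD
  have h4 := Cfsg.Agent.Lib.Helper82.card_defectGroup hM B hB D' hD'
  exact (Subgroup.eq_of_le_of_card_ge (h2.trans h1) (by rw [h3, h4])).symm

/-- Members of a block with normal defect group `D` vanish at elements whose `p`-part is not
in `D`. -/
theorem block_vanish_of_ppart (hM : IsPModular p M) (B : Set (IrrCharacter G))
    (hB : IsPBlock M B) (D : Subgroup G) [D.Normal] (hDp : IsPGroup p D)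
    (hD : IsDefectGroup p M B D) (θ : IrrCharacter G) (hθ : θ ∈ B) (z u : G)
    (hzu : IsPPart p z u) (hu : u ∉ D) : (θ : G → ℂ) z = 0 := by
  refine Cfsg.Agent.S0924.result p M hM θ z u hzu ?_
  intro D' hD'
  rw [← blockOf_eq_of_mem hM hB hθ] at hD'
  rw [defectGroup_eq_of_normal hM B hB D hDp hD D' hD']
  exact hu

/-- Members of a block with normal defect group `D` vanish at elements whose image in `G/D` is
`p`-singular. -/
theorem block_vanish_of_singular_quot (hM : IsPModular p M) (B : Set (IrrCharacter G))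
    (hB : IsPBlock M B) (D : Subgroup G) [D.Normal] (hDp : IsPGroup p D)
    (hD : IsDefectGroup p M B D) (θ : IrrCharacter G) (hθ : θ ∈ B) (g : G)
    (hg : p ∣ orderOf (g : G ⧸ D)) : (θ : G → ℂ) g = 0 := by
  have hp : p.Prime := Fact.out
  obtain ⟨u, hu⟩ := exists_isPPart hp g
  refine block_vanish_of_ppart hM B hB D hDp hD θ hθ g u hu ?_
  intro huD
  obtain ⟨w, huw, -, -, hw⟩ := hu
  apply hw
  have h1 : (g : G ⧸ D) = (w : G ⧸ D) := by
    rw [← huw, QuotientGroup.mk_mul, (QuotientGroup.eq_one_iff u).mpr huD, one_mul]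
  rw [h1] at hg
  exact dvd_trans hg (orderOf_map_dvd (QuotientGroup.mk' D) w)

omit [Fact p.Prime] in
/-- Clifford theory when `G = D · C_G(D)`: the restriction of an irreducible character to `D`
is a multiple of a single irreducible character. -/
theorem irr_res_normal_invariant (D : Subgroup G) [D.Normal]
    (hDC : ∀ g : G, ∃ d ∈ D, ∃ c ∈ Subgroup.centralizer (D : Set G), g = d * c)
    (θ : IrrCharacter G) :
    ∃ ζ : IrrCharacter D, ∃ e : ℂ, e ≠ 0 ∧
      ∀ y : D, (θ : G → ℂ) y = e * (ζ : D → ℂ) y := by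
  classical
  haveI := irr_finite (G := D)
  letI := Fintype.ofFinite (IrrCharacter D)
  have hcf : IsClassFunction D (fun h : D => (θ : G → ℂ) h) :=
    isClassFunction_res D _ (isClassFunction_irr θ)
  obtain ⟨ζ, hζ⟩ : ∃ ζ : IrrCharacter D,
      classInner (fun h : D => (θ : G → ℂ) h) (ζ : D → ℂ) ≠ 0 := by
    by_contra hcon
    push Not at hcon
    have hexp := congrFun (classFunction_expansion _ hcf) 1
    simp only [hcon, zero_smul, Finset.sum_const_zero, Pi.zero_apply, OneMemClass.coe_one]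
      at hexp
    exact irr_one_ne_zero θ hexp
  have hinv : ∀ g : G, Cfsg.Agent.Lib.Helper20.conjFun D (ζ : D → ℂ) g = (ζ : D → ℂ) := by
    intro g
    obtain ⟨d, hd, c, hc, rfl⟩ := hDC g
    funext h
    rw [Cfsg.Agent.Lib.Helper20.conjFun_apply]
    have hch : (h : G) * c = c * (h : G) := Subgroup.mem_centralizer_iff.mp hc (h : G) h.2
    have h1 : (⟨d * c * (h : G) * (d * c)⁻¹, Subgroup.Normal.conj_mem inferInstance (h : G) h.2
        (d * c)⟩ : D) = ⟨d, hd⟩ * h * ⟨d, hd⟩⁻¹ := by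
      apply Subtype.ext
      show d * c * (h : G) * (d * c)⁻¹ = d * (h : G) * d⁻¹
      calc d * c * (h : G) * (d * c)⁻¹ = d * (c * (h : G)) * c⁻¹ * d⁻¹ := by group
        _ = d * ((h : G) * c) * c⁻¹ * d⁻¹ := by rw [hch]
        _ = d * (h : G) * d⁻¹ := by group
    rw [h1]
    exact isClassFunction_irr ζ h ⟨d, hd⟩
  refine ⟨ζ, classInner (fun h : D => (θ : G → ℂ) h) (ζ : D → ℂ), hζ, fun y => ?_⟩
  have h2 := Cfsg.Agent.Lib.Helper20.clifford_res D ζ.2 θ.2 hζ ⊤ (fun g => by simp [hinv g]) y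
  rw [h2]
  simp only [hinv, Finset.sum_const, Finset.card_univ, nsmul_eq_mul, Subgroup.card_top]
  rw [Nat.card_eq_fintype_card]
  have hG : ((Fintype.card G : ℕ) : ℂ) ≠ 0 := by exact_mod_cast Fintype.card_ne_zero
  field_simp

omit [Fintype G] [Fact p.Prime] in
/-- Product formula when `G = D · C_G(D)`. -/
theorem irr_mul_of_central_product [Finite G] (D : Subgroup G) [D.Normal]
    (hDC : ∀ g : G, ∃ d ∈ D, ∃ c ∈ Subgroup.centralizer (D : Set G), g = d * c)
    (θ : IrrCharacter G) (y x : G) (hy : y ∈ D) (hx : x ∈ Subgroup.centralizer (D : Set G)) :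
    (θ : G → ℂ) y * (θ : G → ℂ) x = (θ : G → ℂ) 1 * (θ : G → ℂ) (y * x) := by
  classical
  letI := Fintype.ofFinite G
  refine Cfsg.Agent.S0943.result θ y x ?_
  intro a b ha hb
  obtain ⟨g, hg⟩ := isConj_iff.mp ha
  obtain ⟨g', hg'⟩ := isConj_iff.mp hb
  obtain ⟨d, hd, c, hc, rfl⟩ := hDC g
  obtain ⟨d', hd', c', hc', rfl⟩ := hDC g'
  have hcy : y * c = c * y := Subgroup.mem_centralizer_iff.mp hc y hy
  have hc'y : y * c' = c' * y := Subgroup.mem_centralizer_iff.mp hc' y hy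
  have hcx : c' * x * c'⁻¹ ∈ Subgroup.centralizer (D : Set G) :=
    mul_mem (mul_mem hc' hx) (inv_mem hc')
  have hd'x : d' * (c' * x * c'⁻¹) = (c' * x * c'⁻¹) * d' :=
    Subgroup.mem_centralizer_iff.mp hcx d' hd'
  have hdx : d⁻¹ * (c' * x * c'⁻¹) = (c' * x * c'⁻¹) * d⁻¹ :=
    Subgroup.mem_centralizer_iff.mp hcx d⁻¹ (inv_mem hd)
  have ha' : a = d * y * d⁻¹ := by
    rw [← hg]
    calc d * c * y * (d * c)⁻¹ = d * (c * y) * c⁻¹ * d⁻¹ := by group
      _ = d * (y * c) * c⁻¹ * d⁻¹ := by rw [hcy]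
      _ = d * y * d⁻¹ := by group
  have hb' : b = c' * x * c'⁻¹ := by
    rw [← hg']
    calc d' * c' * x * (d' * c')⁻¹ = d' * (c' * x * c'⁻¹) * d'⁻¹ := by group
      _ = (c' * x * c'⁻¹) * d' * d'⁻¹ := by rw [hd'x]
      _ = c' * x * c'⁻¹ := by group
  have hab : a * b = (d * c') * (y * x) * (d * c')⁻¹ := by
    rw [ha', hb']
    symm
    calc (d * c') * (y * x) * (d * c')⁻¹ = d * (c' * y) * x * c'⁻¹ * d⁻¹ := by group
      _ = d * (y * c') * x * c'⁻¹ * d⁻¹ := by rw [hc'y]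
      _ = d * y * ((c' * x * c'⁻¹) * d⁻¹) := by group
      _ = d * y * (d⁻¹ * (c' * x * c'⁻¹)) := by rw [hdx]
      _ = d * y * d⁻¹ * (c' * x * c'⁻¹) := by group
  rw [hab]
  exact isClassFunction_irr θ (y * x) (d * c')

end

end Cfsg.Agent.Lib.Helper79
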