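import Mathlib
import Cfsg.Agent.Lib.Helper79.NormDef2

/-!
# Blocks with a normal defect group `D` such that `G = D · C_G(D)` (helper79), part 3

The description of the characters of the block: `θ (y x) = ζ y · χ x` for `y ∈ D`, `x` a
`p`-regular element, where `χ` is the canonical character and `ζ ∈ Irr(D)`.
-/

set_option autoImplicit false

namespace Cfsg.Agent.Lib.Helper79

open Cfsg Cfsg.Agent.Lib.Helper4 Cfsg.Agent.Lib.Helper21 Cfsg.Agent.Lib.Helper22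
  Cfsg.Agent.Lib.Helper81
open scoped ComplexConjugate

section

variable {G : Type*} [Group G] [Fintype G] {p : ℕ} [Fact p.Prime] {M : Ideal AlgInt}

omit [Fact p.Prime] in
/-- The norm of an irreducible character, as a sum. -/
theorem irr_norm_sum (θ : IrrCharacter G) :
    ∑ g : G, (θ : G → ℂ) g * conj ((θ : G → ℂ) g) = (Nat.card G : ℂ) := by
  have h := classInner_irr θ θ
  rw [if_pos rfl] at h
  unfold classInner at h
  have hG : (Nat.card G : ℂ) ≠ 0 := card_ne_zero G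
  calc ∑ g : G, (θ : G → ℂ) g * conj ((θ : G → ℂ) g)
      = (Nat.card G : ℂ) * ((Nat.card G : ℂ)⁻¹ *
          ∑ g : G, (θ : G → ℂ) g * conj ((θ : G → ℂ) g)) := by
        rw [← mul_assoc, mul_inv_cancel₀ hG, one_mul]
    _ = (Nat.card G : ℂ) := by rw [h, mul_one]

/-- The description of a member of a block with normal defect group `D`, `G = D · C_G(D)`. -/
theorem block_description (hM : IsPModular p M) (B : Set (IrrCharacter G)) (hB : IsPBlock M B)
    (D : Subgroup G) [D.Normal] (hDp : IsPGroup p D) (hD : IsDefectGroup p M B D)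
    (hDC : ∀ g : G, ∃ d ∈ D, ∃ c ∈ Subgroup.centralizer (D : Set G), g = d * c)
    (hC : ∃ k : ℕ, (Subgroup.centralizer (D : Set G)).index = p ^ k)
    (χ : IrrCharacter G) (hχ : χ ∈ B) (hχD : ∀ u ∈ D, (χ : G → ℂ) u = (χ : G → ℂ) 1)
    (θ : IrrCharacter G) (hθ : θ ∈ B) :
    ∃ ζ : IrrCharacter D, (θ : G → ℂ) 1 = (ζ : D → ℂ) 1 * (χ : G → ℂ) 1 ∧
      ∀ (y : D) (x : G), ¬ p ∣ orderOf x →
        (θ : G → ℂ) ((y : G) * x) = (ζ : D → ℂ) y * (χ : G → ℂ) x := by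
  classical
  have hp : p.Prime := Fact.out
  have hreg : ∀ x : G, ¬ p ∣ orderOf x → x ∈ Subgroup.centralizer (D : Set G) :=
    fun x hx => pRegular_mem_centralizer p D hC x hx
  have huniq : ∀ ψ ∈ B, (∀ u ∈ D, (ψ : G → ℂ) u = (ψ : G → ℂ) 1) → ψ = χ :=
    fun ψ hψ hk => canonical_unique hM D hDp hC B hB hD ψ χ hψ hχ hk hχD
  obtain ⟨ζ, e, he, hζ⟩ := irr_res_normal_invariant D hDC θ
  have hprop := fun x hx => block_prop_regular hM B hB D hDp χ hχ hχD huniq hreg θ hθ x hx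
  have hχ1 : (χ : G → ℂ) 1 ≠ 0 := irr_one_ne_zero χ
  have hθ1 : (θ : G → ℂ) 1 ≠ 0 := irr_one_ne_zero θ
  have hζ1 : (ζ : D → ℂ) 1 ≠ 0 := irr_one_ne_zero ζ
  have h1 : (θ : G → ℂ) 1 = e * (ζ : D → ℂ) 1 := by
    have := hζ 1
    simpa using this
  have hval : ∀ (y : D) (x : G), ¬ p ∣ orderOf x →
      (θ : G → ℂ) ((y : G) * x) = e / (χ : G → ℂ) 1 * ((ζ : D → ℂ) y * (χ : G → ℂ) x) := by
    intro y x hx
    have h2 := irr_mul_of_central_product D hDC θ (y : G) x y.2 (hreg x hx)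
    have h3 := hprop x hx
    rw [hζ y] at h2
    have h4 : (θ : G → ℂ) 1 * ((θ : G → ℂ) ((y : G) * x) * (χ : G → ℂ) 1) =
        (θ : G → ℂ) 1 * (e * ((ζ : D → ℂ) y * (χ : G → ℂ) x)) := by
      calc (θ : G → ℂ) 1 * ((θ : G → ℂ) ((y : G) * x) * (χ : G → ℂ) 1)
          = ((θ : G → ℂ) 1 * (θ : G → ℂ) ((y : G) * x)) * (χ : G → ℂ) 1 := by ring
        _ = e * (ζ : D → ℂ) y * (θ : G → ℂ) x * (χ : G → ℂ) 1 := by rw [← h2]
        _ = e * (ζ : D → ℂ) y * ((θ : G → ℂ) x * (χ : G → ℂ) 1) := by ring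
        _ = e * (ζ : D → ℂ) y * ((θ : G → ℂ) 1 * (χ : G → ℂ) x) := by rw [h3]
        _ = (θ : G → ℂ) 1 * (e * ((ζ : D → ℂ) y * (χ : G → ℂ) x)) := by ring
    have h5 := mul_left_cancel₀ hθ1 h4
    rw [div_mul_eq_mul_div, eq_div_iff hχ1]
    exact h5
  -- the local identity
  have hcc : (χ : G → ℂ) 1 * conj ((χ : G → ℂ) 1) ≠ 0 :=
    mul_ne_zero hχ1 ((map_ne_zero _).mpr hχ1)
  set κ : ℂ := (e * conj e) / ((χ : G → ℂ) 1 * conj ((χ : G → ℂ) 1)) with hκ
  have hnormζ : ∑ d : D, (ζ : D → ℂ) d * conj ((ζ : D → ℂ) d) = (Nat.card D : ℂ) :=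
    irr_norm_sum ζ
  have hcan := canonical_degree hM D hDp hC B hB hD χ hχ hχD
  have hloc : ∀ g : G, ∑ d : D, (θ : G → ℂ) (g * (d : G)) * conj ((θ : G → ℂ) (g * (d : G))) =
      κ * ((Nat.card D : ℂ) * ((χ : G → ℂ) g * conj ((χ : G → ℂ) g))) := by
    intro g
    by_cases hq : p ∣ orderOf (g : G ⧸ D)
    · rw [hcan.2 g hq, zero_mul, mul_zero, mul_zero]
      refine Finset.sum_eq_zero fun d _ => ?_
      have hq' : p ∣ orderOf ((g * (d : G) : G) : G ⧸ D) := by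
        rw [QuotientGroup.mk_mul_of_mem g d.2]; exact hq
      rw [block_vanish_of_singular_quot hM B hB D hDp hD θ hθ _ hq', zero_mul]
    · obtain ⟨y₀, hy₀, hy₀q⟩ := exists_pRegular_lift p D (g : G ⧸ D) hq
      have hd₀ : y₀⁻¹ * g ∈ D := QuotientGroup.eq.mp hy₀q
      have hy₀C := hreg y₀ hy₀
      have hχg : (χ : G → ℂ) g = (χ : G → ℂ) y₀ := by
        have h6 := irr_mul_ker χ D hχD y₀ _ hd₀
        rw [mul_inv_cancel_left] at h6
        exact h6
      have hre : ∑ d : D, (θ : G → ℂ) (g * (d : G)) * conj ((θ : G → ℂ) (g * (d : G))) =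
          ∑ d : D, (θ : G → ℂ) (y₀ * (d : G)) * conj ((θ : G → ℂ) (y₀ * (d : G))) := by
        rw [← Equiv.sum_comp (Equiv.mulLeft (⟨y₀⁻¹ * g, hd₀⟩ : D))
          (fun d : D => (θ : G → ℂ) (y₀ * (d : G)) * conj ((θ : G → ℂ) (y₀ * (d : G))))]
        refine Finset.sum_congr rfl fun d _ => ?_
        have h7 : y₀ * (((Equiv.mulLeft (⟨y₀⁻¹ * g, hd₀⟩ : D)) d : D) : G) = g * (d : G) := by
          simp [mul_assoc]
        rw [h7]
      rw [hre]
      have hterm : ∀ d : D, (θ : G → ℂ) (y₀ * (d : G)) * conj ((θ : G → ℂ) (y₀ * (d : G))) =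
          κ * ((χ : G → ℂ) y₀ * conj ((χ : G → ℂ) y₀)) *
            ((ζ : D → ℂ) d * conj ((ζ : D → ℂ) d)) := by
        intro d
        have hcomm : y₀ * (d : G) = (d : G) * y₀ :=
          (Subgroup.mem_centralizer_iff.mp hy₀C (d : G) d.2).symm
        rw [hcomm, hval d y₀ hy₀, hκ]
        simp only [map_mul, map_div₀]
        have hc1 : conj ((χ : G → ℂ) 1) ≠ 0 := (map_ne_zero _).mpr hχ1
        field_simp
      rw [Finset.sum_congr rfl (fun d _ => hterm d), ← Finset.mul_sum, hnormζ, hχg]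
      ring
  -- the global identity
  have hnormθ := irr_norm_sum θ
  have hnormχ := irr_norm_sum χ
  have hsum1 : ∑ g : G, ∑ d : D,
      (θ : G → ℂ) (g * (d : G)) * conj ((θ : G → ℂ) (g * (d : G))) =
      (Nat.card D : ℂ) * (Nat.card G : ℂ) := by
    rw [Finset.sum_comm]
    have h8 : ∀ d : D, ∑ g : G, (θ : G → ℂ) (g * (d : G)) * conj ((θ : G → ℂ) (g * (d : G))) =
        (Nat.card G : ℂ) := by
      intro d
      exact (Equiv.sum_comp (Equiv.mulRight (d : G))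
        (fun g => (θ : G → ℂ) g * conj ((θ : G → ℂ) g))).trans hnormθ
    rw [Finset.sum_congr rfl (fun d _ => h8 d), Finset.sum_const, Finset.card_univ, nsmul_eq_mul]
    simp only [Nat.card_eq_fintype_card]
  have hsum2 : ∑ g : G, ∑ d : D,
      (θ : G → ℂ) (g * (d : G)) * conj ((θ : G → ℂ) (g * (d : G))) =
      κ * ((Nat.card D : ℂ) * (Nat.card G : ℂ)) := by
    rw [Finset.sum_congr rfl (fun g _ => hloc g), ← Finset.mul_sum, ← Finset.mul_sum, hnormχ]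
  have hκ1 : κ = 1 := by
    have hD0 : (Nat.card D : ℂ) ≠ 0 := card_ne_zero D
    have hG0 : (Nat.card G : ℂ) ≠ 0 := card_ne_zero G
    have h6 : κ * ((Nat.card D : ℂ) * (Nat.card G : ℂ)) =
        1 * ((Nat.card D : ℂ) * (Nat.card G : ℂ)) := by rw [← hsum2, hsum1, one_mul]
    exact mul_right_cancel₀ (mul_ne_zero hD0 hG0) h6
  -- `e = χ 1`
  obtain ⟨n, hn0, hn⟩ := irr_one_nat θ
  obtain ⟨m, hm0, hm⟩ := irr_one_nat ζ
  obtain ⟨k, hk0, hk⟩ := irr_one_nat χ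
  have hn0' : (0 : ℝ) < n := by exact_mod_cast hn0
  have hm0' : (0 : ℝ) < m := by exact_mod_cast hm0
  have hk0' : (0 : ℝ) < k := by exact_mod_cast hk0
  have he' : e = (((n : ℝ) / (m : ℝ) : ℝ) : ℂ) := by
    have h9 : e = (θ : G → ℂ) 1 / (ζ : D → ℂ) 1 := by rw [h1]; field_simp
    rw [h9, hn, hm]
    push_cast
    rfl
  have heq : e = (χ : G → ℂ) 1 := by
    rw [hκ, div_eq_one_iff_eq hcc] at hκ1
    rw [he', hk] at hκ1 ⊢
    rw [Complex.conj_ofReal, map_natCast] at hκ1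
    have h7 : ((n : ℝ) / (m : ℝ)) * ((n : ℝ) / (m : ℝ)) = (k : ℝ) * (k : ℝ) := by
      exact_mod_cast hκ1
    have h8 : (n : ℝ) / (m : ℝ) = (k : ℝ) := by
      rcases mul_self_eq_mul_self_iff.mp h7 with h | h
      · exact h
      · have hpos : 0 < (n : ℝ) / (m : ℝ) := div_pos hn0' hm0'
        linarith
    exact_mod_cast h8
  refine ⟨ζ, by rw [h1, heq, mul_comm], fun y x hx => ?_⟩
  rw [hval y x hx, heq, div_self hχ1, one_mul]

end

end Cfsg.Agent.Lib.Helper79
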