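import Mathlib
import Cfsg.Agent.Lib.Helper79.NormDef3

/-!
# Blocks with a normal defect group `D` such that `G = D · C_G(D)` (helper79), part 4

The set-up from `D ⊔ C_G(D) = ⊤`, and the bijection between the block and `Irr(D)`.
-/

set_option autoImplicit false

namespace Cfsg.Agent.Lib.Helper79

open Cfsg Cfsg.Agent.Lib.Helper4 Cfsg.Agent.Lib.Helper21 Cfsg.Agent.Lib.Helper22
  Cfsg.Agent.Lib.Helper81
open scoped ComplexConjugate

section

variable {G : Type*} [Group G]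

/-- `D ⊔ C_G(D) = ⊤` forces `D` normal. -/
theorem normal_of_sup_centralizer (D : Subgroup G)
    (hG : D ⊔ Subgroup.centralizer (D : Set G) = ⊤) : D.Normal := by
  rw [← Subgroup.normalizer_eq_top_iff, eq_top_iff, ← hG]
  exact sup_le Subgroup.le_normalizer (Subgroup.centralizer_le_normalizer _)

/-- `D ⊔ C_G(D) = ⊤` gives the factorisation `g = d c`. -/
theorem factor_of_sup_centralizer (D : Subgroup G) [D.Normal]
    (hG : D ⊔ Subgroup.centralizer (D : Set G) = ⊤) :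
    ∀ g : G, ∃ d ∈ D, ∃ c ∈ Subgroup.centralizer (D : Set G), g = d * c := by
  intro g
  have hg : g ∈ ((D ⊔ Subgroup.centralizer (D : Set G) : Subgroup G) : Set G) := by
    rw [hG]; trivial
  rw [Subgroup.normal_mul] at hg
  obtain ⟨d, hd, c, hc, rfl⟩ := Set.mem_mul.mp hg
  exact ⟨d, hd, c, hc, rfl⟩

/-- If `G = D · C_G(D)` with `D` a `p`-group then `C_G(D)` has `p`-power index. -/
theorem index_centralizer_of_factor [Finite G] {p : ℕ} [Fact p.Prime] (D : Subgroup G)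
    [D.Normal] (hDp : IsPGroup p D)
    (hDC : ∀ g : G, ∃ d ∈ D, ∃ c ∈ Subgroup.centralizer (D : Set G), g = d * c) :
    ∃ k : ℕ, (Subgroup.centralizer (D : Set G)).index = p ^ k := by
  haveI : (Subgroup.centralizer (D : Set G)).Normal := Subgroup.normal_centralizer
  have hq : IsPGroup p (G ⧸ Subgroup.centralizer (D : Set G)) := by
    intro q
    induction q using QuotientGroup.induction_on with
    | H g =>
      obtain ⟨d, hd, c, hc, rfl⟩ := hDC g
      obtain ⟨k, hk⟩ := hDp ⟨d, hd⟩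
      refine ⟨k, ?_⟩
      rw [QuotientGroup.mk_mul_of_mem d hc, ← QuotientGroup.mk_pow]
      have h1 : d ^ p ^ k = 1 := by simpa using congrArg Subtype.val hk
      rw [h1]; rfl
  obtain ⟨k, hk⟩ := IsPGroup.iff_card.mp hq
  exact ⟨k, by rw [Subgroup.index_eq_card]; exact hk⟩

end

section

variable {G : Type*} [Group G] [Fintype G] {p : ℕ} [Fact p.Prime] {M : Ideal AlgInt}

/-- Two members of the block with the same description coincide. -/
theorem block_desc_injective (hM : IsPModular p M) (B : Set (IrrCharacter G))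
    (hB : IsPBlock M B) (D : Subgroup G) [D.Normal] (hDp : IsPGroup p D)
    (hD : IsDefectGroup p M B D) (χ : IrrCharacter G) (ζ : IrrCharacter D)
    (θ θ' : IrrCharacter G) (hθ : θ ∈ B) (hθ' : θ' ∈ B)
    (h : ∀ (y : D) (x : G), ¬ p ∣ orderOf x → Commute (y : G) x →
      (θ : G → ℂ) ((y : G) * x) = (ζ : D → ℂ) y * (χ : G → ℂ) x)
    (h' : ∀ (y : D) (x : G), ¬ p ∣ orderOf x → Commute (y : G) x →
      (θ' : G → ℂ) ((y : G) * x) = (ζ : D → ℂ) y * (χ : G → ℂ) x) : θ = θ' := by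
  have hp : p.Prime := Fact.out
  apply Subtype.ext
  funext z
  obtain ⟨u, hu⟩ := exists_isPPart hp z
  by_cases huD : u ∈ D
  · obtain ⟨w, hw, hc, -, hwreg⟩ := hu
    rw [← hw]
    have e1 := h ⟨u, huD⟩ w hwreg hc
    have e2 := h' ⟨u, huD⟩ w hwreg hc
    exact e1.trans e2.symm
  · rw [block_vanish_of_ppart hM B hB D hDp hD θ hθ z u hu huD,
      block_vanish_of_ppart hM B hB D hDp hD θ' hθ' z u hu huD]

/-- Every irreducible character of `D` occurs in the description of some member of the block. -/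
theorem block_desc_surjective (hM : IsPModular p M) (B : Set (IrrCharacter G))
    (hB : IsPBlock M B) (D : Subgroup G) [D.Normal] (hDp : IsPGroup p D)
    (hD : IsDefectGroup p M B D)
    (hDC : ∀ g : G, ∃ d ∈ D, ∃ c ∈ Subgroup.centralizer (D : Set G), g = d * c)
    (hC : ∃ k : ℕ, (Subgroup.centralizer (D : Set G)).index = p ^ k)
    (χ : IrrCharacter G) (hχ : χ ∈ B) (hχD : ∀ u ∈ D, (χ : G → ℂ) u = (χ : G → ℂ) 1)
    (ζ : IrrCharacter D) :
    ∃ θ ∈ B, ∀ (y : D) (x : G), ¬ p ∣ orderOf x →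
        (θ : G → ℂ) ((y : G) * x) = (ζ : D → ℂ) y * (χ : G → ℂ) x := by
  classical
  haveI := irr_finite (G := G)
  letI := Fintype.ofFinite (IrrCharacter G)
  haveI := irr_finite (G := D)
  letI := Fintype.ofFinite (IrrCharacter D)
  have hp : p.Prime := Fact.out
  have hreg : ∀ x : G, ¬ p ∣ orderOf x → x ∈ Subgroup.centralizer (D : Set G) :=
    fun x hx => pRegular_mem_centralizer p D hC x hx
  have huniq : ∀ ψ ∈ B, (∀ u ∈ D, (ψ : G → ℂ) u = (ψ : G → ℂ) 1) → ψ = χ :=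
    fun ψ hψ hk => canonical_unique hM D hDp hC B hB hD ψ χ hψ hχ hk hχD
  have hex : ∀ θ : IrrCharacter G, ∃ ξ : IrrCharacter D, θ ∈ B →
      ((θ : G → ℂ) 1 = (ξ : D → ℂ) 1 * (χ : G → ℂ) 1 ∧
      ∀ (y : D) (x : G), ¬ p ∣ orderOf x →
        (θ : G → ℂ) ((y : G) * x) = (ξ : D → ℂ) y * (χ : G → ℂ) x) := by
    intro θ
    by_cases hθ : θ ∈ B
    · obtain ⟨ξ, h1, h2⟩ := block_description hM B hB D hDp hD hDC hC χ hχ hχD θ hθ
      exact ⟨ξ, fun _ => ⟨h1, h2⟩⟩
    · exact ⟨ζ, fun h => absurd h hθ⟩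
  choose F hF using hex
  set S : Finset (IrrCharacter G) := Finset.univ.filter (· ∈ B) with hS
  have hmemS : ∀ θ, θ ∈ S ↔ θ ∈ B := fun θ => by rw [hS, Finset.mem_filter]; simp
  have hinj : Set.InjOn F (S : Set (IrrCharacter G)) := by
    intro θ hθ θ' hθ' hFF
    have hθB := (hmemS θ).mp hθ
    have hθ'B := (hmemS θ').mp hθ'
    refine block_desc_injective hM B hB D hDp hD χ (F θ) θ θ' hθB hθ'B
      (fun y x hx _ => (hF θ hθB).2 y x hx) (fun y x hx _ => ?_)
    rw [hFF]; exact (hF θ' hθ'B).2 y x hx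
  by_contra hcon
  have hnot : ζ ∉ S.image F := by
    intro hζ
    obtain ⟨θ, hθ, rfl⟩ := Finset.mem_image.mp hζ
    exact hcon ⟨θ, (hmemS θ).mp hθ, (hF θ ((hmemS θ).mp hθ)).2⟩
  -- the degree function
  set f : IrrCharacter D → ℝ := fun ξ => Complex.normSq ((ξ : D → ℂ) 1) with hf
  have hfpos : ∀ ξ, 0 < f ξ := fun ξ => Complex.normSq_pos.mpr (irr_one_ne_zero ξ)
  have hlt : ∑ ξ ∈ S.image F, f ξ < ∑ ξ : IrrCharacter D, f ξ :=
    Finset.sum_lt_sum_of_subset (Finset.subset_univ _) (Finset.mem_univ ζ) hnot (hfpos ζ)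
      (fun j _ _ => (hfpos j).le)
  rw [Finset.sum_image hinj] at hlt
  -- the total sum
  have htot : ∑ ξ : IrrCharacter D, f ξ = (Nat.card D : ℝ) := by
    have h1 := sum_sq_irr (G := D)
    have h2 : ((∑ ξ : IrrCharacter D, f ξ : ℝ) : ℂ) = ((Nat.card D : ℝ) : ℂ) := by
      rw [Complex.ofReal_sum, Complex.ofReal_natCast, ← h1]
      refine Finset.sum_congr rfl fun ξ _ => ?_
      rw [hf, ← Complex.mul_conj, irr_one_conj, sq]
    exact_mod_cast h2
  -- the block sum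
  have h1reg : ¬ p ∣ orderOf (1 : G) := by rw [orderOf_one]; exact hp.not_dvd_one
  have T11 := block_two_point_normal' hM B hB D hDp χ hχ hχD huniq 1 1 h1reg h1reg
    (hreg 1 h1reg)
  have hχ1 : (χ : G → ℂ) 1 ≠ 0 := irr_one_ne_zero χ
  have hblk : ∑ θ ∈ S, f (F θ) = (Nat.card D : ℝ) := by
    have h2 : ((∑ θ ∈ S, f (F θ) : ℝ) : ℂ) * ((χ : G → ℂ) 1 * conj ((χ : G → ℂ) 1)) =
        ((Nat.card D : ℝ) : ℂ) * ((χ : G → ℂ) 1 * conj ((χ : G → ℂ) 1)) := by
      rw [Complex.ofReal_natCast, ← T11, Complex.ofReal_sum, Finset.sum_mul, hS,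
        Finset.sum_filter]
      refine Finset.sum_congr rfl fun θ _ => ?_
      by_cases hθ : θ ∈ B
      · rw [if_pos hθ, if_pos hθ, (hF θ hθ).1, hf, ← Complex.mul_conj]
        simp only [map_mul]
        ring
      · rw [if_neg hθ, if_neg hθ]
    have hcc : (χ : G → ℂ) 1 * conj ((χ : G → ℂ) 1) ≠ 0 :=
      mul_ne_zero hχ1 ((map_ne_zero _).mpr hχ1)
    have h3 := mul_right_cancel₀ hcc h2
    exact_mod_cast h3
  rw [htot, hblk] at hlt
  exact lt_irrefl _ hlt

end

end Cfsg.Agent.Lib.Helper79
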