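import Mathlib
import Cfsg.Agent.Lib.Helper72.SCDefs

/-! Project SC (helper72, S4394), piece FFA: routine facts in `V ⋊ Aut V`. -/

set_option autoImplicit false

namespace Cfsg.Agent.Lib.Helper79.SC

open Cfsg.Agent.Lib.Helper72.SC

open scoped commutatorElement

universe u

/-- the image of a centralizer under an automorphism -/
theorem ffa_map_centralizer {G : Type*} [Group G] (φ : G ≃* G) (S : Subgroup G) :
    (Subgroup.centralizer (S : Set G)).map φ.toMonoidHom =
      Subgroup.centralizer ((S.map φ.toMonoidHom : Subgroup G) : Set G) := by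
  ext x
  constructor
  · rintro ⟨c, hc, rfl⟩
    rw [Subgroup.mem_centralizer_iff]
    rintro _ ⟨s, hs, rfl⟩
    show φ s * φ c = φ c * φ s
    rw [← map_mul, ← map_mul, (Subgroup.mem_centralizer_iff.mp hc) s hs]
  · intro hx
    refine ⟨φ.symm x, ?_, φ.apply_symm_apply x⟩
    show φ.symm x ∈ Subgroup.centralizer (S : Set G)
    rw [Subgroup.mem_centralizer_iff]
    intro s hs
    apply φ.injective
    rw [map_mul, map_mul, φ.apply_symm_apply]
    exact (Subgroup.mem_centralizer_iff.mp hx) (φ s) ⟨s, hs, rfl⟩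

/-- best offenders are preserved by automorphisms stabilizing `V` -/
theorem ffa_bestOffender_map {G : Type*} [Group G] (p : ℕ) (V A : Subgroup G) (φ : G ≃* G)
    (hV : V.map φ.toMonoidHom = V) (h : Cfsg.IsBestOffenderOn p V A) :
    Cfsg.IsBestOffenderOn p V (A.map φ.toMonoidHom) := by
  obtain ⟨h1, h2, h3⟩ := h
  have hinj : Function.Injective φ.toMonoidHom := φ.injective
  have hcard : ∀ B : Subgroup G, Nat.card ↥(B.map φ.toMonoidHom) *
      Nat.card ↥(V ⊓ Subgroup.centralizer ((B.map φ.toMonoidHom : Subgroup G) : Set G)) =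
      Nat.card ↥B * Nat.card ↥(V ⊓ Subgroup.centralizer (B : Set G)) := by
    intro B
    have e1 : V ⊓ Subgroup.centralizer ((B.map φ.toMonoidHom : Subgroup G) : Set G) =
        (V ⊓ Subgroup.centralizer (B : Set G)).map φ.toMonoidHom := by
      rw [Subgroup.map_inf_eq _ _ _ hinj, hV, ffa_map_centralizer]
    rw [e1, Subgroup.card_map_of_injective hinj, Subgroup.card_map_of_injective hinj]
  have hCV : (Subgroup.centralizer (V : Set G)).map φ.toMonoidHom =
      Subgroup.centralizer (V : Set G) := by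
    rw [ffa_map_centralizer, hV]
  refine ⟨?_, ?_, ?_⟩
  · intro B' hB'
    have hB : B'.comap φ.toMonoidHom ≤ A := by
      intro x hx
      obtain ⟨a, ha, hax⟩ := hB' (Subgroup.mem_comap.mp hx)
      have : a = x := φ.injective hax
      rw [← this]
      exact ha
    have hmap : (B'.comap φ.toMonoidHom).map φ.toMonoidHom = B' :=
      Subgroup.map_comap_eq_self_of_surjective φ.surjective B'
    have h4 := h1 _ hB
    rw [← hcard (B'.comap φ.toMonoidHom), hmap] at h4
    rw [hcard A]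
    exact h4
  · rw [← Subgroup.map_commutator, ← hCV]
    exact Subgroup.map_mono h2
  · rintro _ ⟨a, ha, rfl⟩
    rw [← hCV]
    exact ⟨a ^ p, h3 a ha, map_pow _ _ _⟩

theorem ffa_normal_Vs (V : Type*) [Group V] : (Vs V).Normal := by
  have h : Vs V = (SemidirectProduct.rightHom : Gam V →* MulAut V).ker :=
    SemidirectProduct.range_inl_eq_ker_rightHom
  rw [h]
  exact MonoidHom.normal_ker _

theorem ffa_map_conj_normal {G : Type*} [Group G] (N : Subgroup G) (hN : N.Normal) (g : G) :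
    N.map (MulAut.conj g).toMonoidHom = N := by
  ext x
  constructor
  · rintro ⟨n, hn, rfl⟩
    exact hN.conj_mem n hn g
  · intro hx
    refine ⟨g⁻¹ * x * g, ?_, ?_⟩
    · have := hN.conj_mem x hx g⁻¹
      rwa [inv_inv] at this
    · show g * (g⁻¹ * x * g) * g⁻¹ = x
      group

theorem ffa_conj_le (V : Type*) [Group V] (p : ℕ) (Gb : Subgroup (MulAut V)) (g : Gam V)
    (hg : g ∈ up Gb) : (Hs p Gb).map (MulAut.conj g).toMonoidHom ≤ Hs p Gb := by
  unfold Hs
  rw [Subgroup.map_iSup]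
  apply iSup_le
  rintro ⟨A, hA, hbo⟩
  have hA' : A.map (MulAut.conj g).toMonoidHom ≤ up Gb := by
    rintro _ ⟨a, ha, rfl⟩
    exact (up Gb).mul_mem ((up Gb).mul_mem hg (hA ha)) ((up Gb).inv_mem hg)
  have hbo' : Cfsg.IsBestOffenderOn p (Vs V) (A.map (MulAut.conj g).toMonoidHom) :=
    ffa_bestOffender_map p (Vs V) A (MulAut.conj g)
      (ffa_map_conj_normal (Vs V) (ffa_normal_Vs V) g) hbo
  exact le_iSup (fun A : {A : Subgroup (Gam V) // A ≤ up Gb ∧
    Cfsg.IsBestOffenderOn p (Vs V) A} => (A : Subgroup (Gam V)))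
    ⟨A.map (MulAut.conj g).toMonoidHom, hA', hbo'⟩

theorem ffa : FfaStmt.{u} := by
  intro V _ _ p _ Gb hcomm hexp
  have hHs_le : Hs p Gb ≤ up Gb := by
    unfold Hs
    apply iSup_le
    rintro ⟨A, hA, -⟩
    exact hA
  refine ⟨⟨⟨⟨?_⟩⟩, ?_⟩, hHs_le, ?_, ?_, ?_, ?_⟩
  · rintro ⟨_, ⟨v, rfl⟩⟩ ⟨_, ⟨w, rfl⟩⟩
    apply Subtype.ext
    show (SemidirectProduct.inl v : Gam V) * SemidirectProduct.inl w =
      SemidirectProduct.inl w * SemidirectProduct.inl v
    rw [← map_mul, ← map_mul, hcomm v w]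
  · rintro _ ⟨v, rfl⟩
    rw [← map_pow, hexp, map_one]
  · intro g hg
    rw [Subgroup.mem_normalizer_iff]
    intro h
    constructor
    · intro hh
      exact ffa_conj_le V p Gb g hg ⟨h, hh, rfl⟩
    · intro hh
      have h1 := ffa_conj_le V p Gb g⁻¹ ((up Gb).inv_mem hg) ⟨g * h * g⁻¹, hh, rfl⟩
      have h2 : (MulAut.conj g⁻¹).toMonoidHom (g * h * g⁻¹) = h := by
        show g⁻¹ * (g * h * g⁻¹) * g⁻¹⁻¹ = h
        group
      rwa [h2] at h1
  · haveI := ffa_normal_Vs V
    rw [Subgroup.normalizer_eq_top]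
    exact le_top
  · rw [eq_bot_iff]
    rintro x ⟨hx1, hx2⟩
    obtain ⟨a, -, rfl⟩ := hHs_le hx1
    rw [Subgroup.mem_bot]
    have ha : a = 1 := by
      apply MulEquiv.ext
      intro v
      have h1 := (Subgroup.mem_centralizer_iff.mp hx2) (SemidirectProduct.inl v) ⟨v, rfl⟩
      have h2 : (SemidirectProduct.inl (a v) : Gam V) =
          SemidirectProduct.inr a * SemidirectProduct.inl v * SemidirectProduct.inr a⁻¹ :=
        SemidirectProduct.inl_aut a v
      have h3 : (SemidirectProduct.inl (a v) : Gam V) = SemidirectProduct.inl v := by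
        rw [h2, ← h1, mul_assoc, ← map_mul, mul_inv_cancel, map_one, mul_one]
      exact SemidirectProduct.inl_injective h3
    rw [ha, map_one]
  · apply le_antisymm
    · conv_lhs => unfold Hs
      apply iSup_le
      rintro ⟨A, hA, hbo⟩
      have hAH : A ≤ Hs p Gb :=
        le_iSup (fun A : {A : Subgroup (Gam V) // A ≤ up Gb ∧
          Cfsg.IsBestOffenderOn p (Vs V) A} => (A : Subgroup (Gam V))) ⟨A, hA, hbo⟩
      exact le_iSup (fun A : {A : Subgroup (Gam V) // A ≤ Hs p Gb ∧
        Cfsg.IsBestOffenderOn p (Vs V) A} => (A : Subgroup (Gam V))) ⟨A, hAH, hbo⟩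
    · apply iSup_le
      rintro ⟨A, hA, -⟩
      exact hA

end Cfsg.Agent.Lib.Helper79.SC
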