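import Mathlib
import Cfsg.Agent.Lib.Helper72.SCDefs
import Cfsg.Agent.Lib.Helper72.Frattini
import Cfsg.Agent.Lib.Helper41.Cores

/-! Project SC (helper72, S4394), piece OFF: the offender inequality `|V| ≤ |A| |C_V(A)|`. -/

set_option autoImplicit false

namespace Cfsg.Agent.Lib.Helper79.SC

open Cfsg.Agent.Lib.Helper72.SC

open scoped commutatorElement

universe u

theorem off (h1 : KerStmt.{u}) (h2 : BasStmt.{u}) (h3 : PairStmt.{u}) : OffStmt.{u} := by
  intro G _ _ p _ Q hsolv hO hSE hQR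
  classical
  obtain ⟨hZR, hΦZ, hΦne⟩ := h2 G p Q hsolv hO hSE hQR
  have hker := h1 G p hsolv hO
  have hRQ : Cfsg.pCore p G ≤ (Q : Subgroup G) := Cfsg.Agent.Lib.Helper41.pCore_le_sylow Q
  have hRp : IsPGroup p ↥(Cfsg.pCore p G) := Cfsg.Agent.Lib.Helper41.pCore_isPGroup p
  have hsub : (fr p G).subgroupOf (Cfsg.pCore p G) = frattini ↥(Cfsg.pCore p G) := by
    unfold fr Subgroup.subgroupOf
    exact Subgroup.comap_map_eq_self_of_injective (Subgroup.subtype_injective _) _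
  have hVV : Nat.card (VV p G) = (fr p G).relIndex (Cfsg.pCore p G) := by
    rw [Subgroup.relIndex, hsub]
    rfl
  have hAQ : Nat.card ↥(AQ p (Q : Subgroup G)) =
      (Cfsg.pCore p G).relIndex (Q : Subgroup G) := by
    have h5 := Subgroup.relIndex_ker (rho p G) (K := (Q : Subgroup G))
    rw [hker] at h5
    exact h5.symm
  have hcomm : ∀ u ∈ Cfsg.pCore p G, ∀ v ∈ Cfsg.pCore p G, ⁅u, v⁆ ∈ fr p G := by
    intro u hu v hv
    exact ⟨(⟨u, hu⟩ : ↥(Cfsg.pCore p G)) * ⟨v, hv⟩ * (⟨u, hu⟩ : ↥(Cfsg.pCore p G))⁻¹ *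
      (⟨v, hv⟩ : ↥(Cfsg.pCore p G))⁻¹,
      Cfsg.Agent.Lib.Helper72.comm_mem_frattini hRp _ _, rfl⟩
  have hpair := h3 G p (Q : Subgroup G) (zc (Q : Subgroup G)) (Cfsg.pCore p G) (fr p G)
    Q.isPGroup' hSE hZR hRQ hΦZ hΦne hcomm
  have hZfix : ∀ v ∈ ((zc (Q : Subgroup G)).subgroupOf (Cfsg.pCore p G)).map
      (QuotientGroup.mk' (frattini ↥(Cfsg.pCore p G))),
      ∀ a ∈ AQ p (Q : Subgroup G), a v = v := by
    rintro _ ⟨z, hz, rfl⟩ _ ⟨g, hg, rfl⟩
    have hz' : (z : G) ∈ zc (Q : Subgroup G) := hz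
    have hgz : g * (z : G) = (z : G) * g := hSE.2.1 (z : G) hz' g hg
    have hconj : MulAut.conjNormal g z = z := by
      apply Subtype.ext
      rw [MulAut.conjNormal_apply, hgz, mul_inv_cancel_right]
    show rho p G g (QuotientGroup.mk z) = QuotientGroup.mk z
    have h4 : rho p G g (QuotientGroup.mk z) =
        QuotientGroup.mk (MulAut.conjNormal g z) := rfl
    rw [h4, hconj]
  have hfix : (fr p G).relIndex (zc (Q : Subgroup G)) ≤
      Nat.card {v : VV p G // ∀ a ∈ AQ p (Q : Subgroup G), a v = v} := by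
    have hcard : Nat.card ↥(((zc (Q : Subgroup G)).subgroupOf (Cfsg.pCore p G)).map
        (QuotientGroup.mk' (frattini ↥(Cfsg.pCore p G)))) =
        (fr p G).relIndex (zc (Q : Subgroup G)) := by
      rw [← Subgroup.relIndex_ker, QuotientGroup.ker_mk', ← hsub,
        Subgroup.relIndex_subgroupOf hZR]
    rw [← hcard]
    apply Nat.card_le_card_of_injective
      (fun x : ↥(((zc (Q : Subgroup G)).subgroupOf (Cfsg.pCore p G)).map
        (QuotientGroup.mk' (frattini ↥(Cfsg.pCore p G)))) =>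
        (⟨x.1, hZfix x.1 x.2⟩ : {v : VV p G // ∀ a ∈ AQ p (Q : Subgroup G), a v = v}))
    intro x y hxy
    simp only [Subtype.mk.injEq] at hxy
    exact Subtype.ext hxy
  calc Nat.card (VV p G) = (fr p G).relIndex (Cfsg.pCore p G) := hVV
    _ = (fr p G).relIndex (zc (Q : Subgroup G)) *
        (zc (Q : Subgroup G)).relIndex (Cfsg.pCore p G) :=
      (Subgroup.relIndex_mul_relIndex _ _ _ hΦZ hZR).symm
    _ ≤ Nat.card {v : VV p G // ∀ a ∈ AQ p (Q : Subgroup G), a v = v} *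
        (Cfsg.pCore p G).relIndex (Q : Subgroup G) := Nat.mul_le_mul hfix hpair
    _ = Nat.card ↥(AQ p (Q : Subgroup G)) *
        Nat.card {v : VV p G // ∀ a ∈ AQ p (Q : Subgroup G), a v = v} := by
      rw [hAQ, mul_comm]

end Cfsg.Agent.Lib.Helper79.SC
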